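import Cfsg.Agent.Lib.Chev.Bruhat
import Cfsg.Prelude.Def_ChevB2
import Mathlib.Algebra.CharP.Two
import Mathlib.FieldTheory.Perfect

/-!
# `B2` in characteristic two: the parameter set is a field, and the central elements are rational

`Pair τ μ` says `x_{a+b}(τ) x_{2a+b}(μ) ∈ H`.
-/

set_option autoImplicit false
set_option linter.unusedSectionVars false
set_option maxHeartbeats 800000

namespace CfsgLib.SubfieldOver

open Cfsg.Lie CfsgLib.Chev

variable {F : Type*} [Field F] [CharP F 2] {T : Tabs}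

/-- the pairs of central coordinates in `H` -/
def Pair (H : Subgroup (GL chevB2.Idx F)) (τ μ : F) : Prop :=
  elX chevB2 F 6 τ * elX chevB2 F 7 μ ∈ H

section
variable (hc : Checked chevB2 T) (hcomm : CommOne chevB2 T) {H : Subgroup (GL chevB2.Idx F)} {S : Set F}
  (hS : ∀ r, r < chevB2.nroots → ∀ t, elX chevB2 F r t ∈ H ↔ t ∈ S) (h1 : (1 : F) ∈ S)
include hc hcomm hS h1

omit hcomm in
theorem n_mem (i : Fin chevB2.rank) : nProd chevB2 F [i] ∈ H := by
  have hp := simple_lt hc i.2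
  rw [nProd_cons, nProd_nil, mul_one, elN, inv_one, show (-1 : F) = 1 from CharTwo.neg_eq 1]
  exact mul_mem (mul_mem ((hS _ hp _).2 h1) ((hS _ (neg_lt hc hp) _).2 h1)) ((hS _ hp _).2 h1)

omit hcomm in
theorem n_conj (i : Fin chevB2.rank) {s s' : ℕ} (hs : s < chevB2.nroots) (h : chevB2.reflectRoot i.val s = s') (t : F) :
    nProd chevB2 F [i] * elX chevB2 F s t * (nProd chevB2 F [i])⁻¹ = elX chevB2 F s' t := by
  obtain ⟨c, hc1, hx⟩ := nProd_conj_elX hc (F := F) [i] hs
  rw [hx, ← h, reflectRoot_eq hc i hs]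
  rcases hc1 with e | e <;> rw [e]
  · rw [one_mul]; rfl
  · rw [CharTwo.neg_eq, one_mul]; rfl

theorem conj_a_b (t u : F) :
    elX chevB2 F 5 t * elX chevB2 F 4 u * (elX chevB2 F 5 t)⁻¹ =
      elX chevB2 F 4 u * (elX chevB2 F 6 (t * u) * elX chevB2 F 7 (t ^ 2 * u)) := by
  rw [elX_conj_elX hc hcomm (show 5 < chevB2.nroots by decide) (show 4 < chevB2.nroots by decide) (by decide)
    (by decide)]
  rw [show chevB2.commWord F 5 4 (-t) u = [(6, t * u), (7, t ^ 2 * u)] by
    simp [ChevalleyDatum.commWord, show chevB2.commTerms 5 4 = [(6, -1, 1, 1), (7, -1, 2, 1)] from by decide +kernel,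
      CharTwo.neg_eq]]
  simp [wordGL]

theorem conj_b_a (u t : F) :
    elX chevB2 F 4 u * elX chevB2 F 5 t * (elX chevB2 F 4 u)⁻¹ =
      elX chevB2 F 5 t * (elX chevB2 F 6 (u * t) * elX chevB2 F 7 (u * t ^ 2)) := by
  rw [elX_conj_elX hc hcomm (show 4 < chevB2.nroots by decide) (show 5 < chevB2.nroots by decide) (by decide)
    (by decide)]
  rw [show chevB2.commWord F 4 5 (-u) t = [(6, u * t), (7, u * t ^ 2)] by
    simp [ChevalleyDatum.commWord, show chevB2.commTerms 4 5 = [(6, 1, 1, 1), (7, -1, 1, 2)] from by decide +kernel,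
      CharTwo.neg_eq]]
  simp [wordGL]

theorem comm_zero {a b : ℕ} (ha : a < chevB2.nroots) (hb : b < chevB2.nroots) (hne : b ≠ a)
    (hneg : b ≠ chevB2.neg a) (h : ∀ q ∈ chevB2.commTerms a b, (2 : ℤ) ∣ q.2.1) (x y : F) :
    Commute (elX chevB2 F a x) (elX chevB2 F b y) := by
  have e := elX_conj_elX hc hcomm (F := F) ha hb hne hneg x y
  have hw : wordGL chevB2 F (chevB2.commWord F a b (-x) y) = 1 := by
    refine List.prod_eq_one fun g hg => ?_
    obtain ⟨p, hp, rfl⟩ := List.mem_map.1 hg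
    obtain ⟨q, hq, rfl⟩ := List.mem_map.1 hp
    simp only [(CharP.intCast_eq_zero_iff F 2 _).2 (show ((2 : ℕ) : ℤ) ∣ q.2.1 by exact_mod_cast h q hq), zero_mul]
    exact elX_zero hc F (commTerms_weight hc ha hb q hq).1
  rw [hw, mul_one] at e
  exact mul_inv_eq_iff_eq_mul.1 e

theorem pair_mul {τ μ τ' μ' : F} (h : Pair H τ μ) (h' : Pair H τ' μ') : Pair H (τ + τ') (μ + μ') := by
  have := mul_mem h h'
  unfold Pair
  have hc67 := comm_zero hc hcomm hS h1 (show 6 < chevB2.nroots by decide) (show 7 < chevB2.nroots by decide)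
    (by decide) (by decide) (by decide +kernel) τ' μ
  rw [← elX_add hc F (show 6 < chevB2.nroots by decide), ← elX_add hc F (show 7 < chevB2.nroots by decide)]
  convert this using 1
  rw [mul_assoc (elX chevB2 F 6 τ), ← mul_assoc (elX chevB2 F 6 τ'), hc67.eq]
  group

theorem pair_sq {τ μ : F} (h : Pair H τ μ) : Pair H τ (τ ^ 2) := by
  have h5 : elX chevB2 F 5 τ * elX chevB2 F 7 μ ∈ H := by
    have := mul_mem (mul_mem (n_mem hc hS h1 ⟨1, by decide⟩) h) (inv_mem (n_mem hc hS h1 ⟨1, by decide⟩))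
    rw [← n_conj hc hS h1 ⟨1, by decide⟩ (show 6 < chevB2.nroots by decide) (show _ = 5 by decide +kernel) τ,
      ← n_conj hc hS h1 ⟨1, by decide⟩ (show 7 < chevB2.nroots by decide) (show _ = 7 by decide +kernel) μ]
    convert this using 1
    group
  have hb : elX chevB2 F 4 1 ∈ H := (hS 4 (by decide) 1).2 h1
  have key := mul_mem (inv_mem h5) (mul_mem (mul_mem hb h5) (inv_mem hb))
  unfold Pair
  convert key using 1
  have hc47 := comm_zero hc hcomm hS h1 (show 4 < chevB2.nroots by decide) (show 7 < chevB2.nroots by decide)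
    (by decide) (by decide) (by decide +kernel) 1 μ
  have h2 := conj_b_a hc hcomm hS h1 1 τ
  rw [one_mul, one_mul] at h2
  have hA := comm_zero hc hcomm hS h1 (show 7 < chevB2.nroots by decide) (show 6 < chevB2.nroots by decide)
    (by decide) (by decide) (by decide +kernel) μ τ
  have hB : Commute (elX chevB2 F 7 μ) (elX chevB2 F 7 (τ ^ 2)) := by
    show _ = _
    rw [elX_add hc F (by decide), elX_add hc F (by decide), add_comm]
  have e : elX chevB2 F 4 1 * (elX chevB2 F 5 τ * elX chevB2 F 7 μ) * (elX chevB2 F 4 1)⁻¹ =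
      elX chevB2 F 5 τ * elX chevB2 F 7 μ * (elX chevB2 F 6 τ * elX chevB2 F 7 (τ ^ 2)) := by
    calc _ = (elX chevB2 F 4 1 * elX chevB2 F 5 τ * (elX chevB2 F 4 1)⁻¹) *
          (elX chevB2 F 4 1 * elX chevB2 F 7 μ * (elX chevB2 F 4 1)⁻¹) := by group
      _ = _ := by
          rw [h2, hc47.eq, mul_inv_cancel_right, mul_assoc (elX chevB2 F 5 τ) _ (elX chevB2 F 7 μ),
            ← ((hA.mul_right hB)).eq]
          group
  rw [e]
  group

theorem pair_diag {τ μ : F} (h : Pair H τ μ) : elX chevB2 F 6 τ * elX chevB2 F 4 μ ∈ H ∧ Pair H μ μ := by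
  have h4 : elX chevB2 F 6 τ * elX chevB2 F 4 μ ∈ H := by
    have := mul_mem (mul_mem (n_mem hc hS h1 ⟨0, by decide⟩) h) (inv_mem (n_mem hc hS h1 ⟨0, by decide⟩))
    rw [← n_conj hc hS h1 ⟨0, by decide⟩ (show 6 < chevB2.nroots by decide) (show _ = 6 by decide +kernel) τ,
      ← n_conj hc hS h1 ⟨0, by decide⟩ (show 7 < chevB2.nroots by decide) (show _ = 4 by decide +kernel) μ]
    convert this using 1
    group
  refine ⟨h4, ?_⟩
  have ha : elX chevB2 F 5 1 ∈ H := (hS 5 (by decide) 1).2 h1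
  have key := mul_mem (inv_mem h4) (mul_mem (mul_mem ha h4) (inv_mem ha))
  unfold Pair
  convert key using 1
  have hc56 := comm_zero hc hcomm hS h1 (show 5 < chevB2.nroots by decide) (show 6 < chevB2.nroots by decide)
    (by decide) (by decide) (by decide +kernel) 1 τ
  have h2 := conj_a_b hc hcomm hS h1 1 μ
  rw [one_pow, one_mul] at h2
  have e : elX chevB2 F 5 1 * (elX chevB2 F 6 τ * elX chevB2 F 4 μ) * (elX chevB2 F 5 1)⁻¹ =
      elX chevB2 F 6 τ * elX chevB2 F 4 μ * (elX chevB2 F 6 μ * elX chevB2 F 7 μ) := by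
    calc _ = (elX chevB2 F 5 1 * elX chevB2 F 6 τ * (elX chevB2 F 5 1)⁻¹) *
          (elX chevB2 F 5 1 * elX chevB2 F 4 μ * (elX chevB2 F 5 1)⁻¹) := by group
      _ = _ := by rw [h2, hc56.eq, mul_inv_cancel_right]; group
  rw [e]
  group

theorem pair_mix {τ μ τ' μ' : F} (h : Pair H τ μ) (h' : Pair H τ' μ') : Pair H (τ' * μ) (τ' ^ 2 * μ) := by
  have h4 := (pair_diag hc hcomm hS h1 h).1
  have h5 : elX chevB2 F 5 τ' * elX chevB2 F 7 μ' ∈ H := by
    have := mul_mem (mul_mem (n_mem hc hS h1 ⟨1, by decide⟩) h') (inv_mem (n_mem hc hS h1 ⟨1, by decide⟩))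
    rw [← n_conj hc hS h1 ⟨1, by decide⟩ (show 6 < chevB2.nroots by decide) (show _ = 5 by decide +kernel) τ',
      ← n_conj hc hS h1 ⟨1, by decide⟩ (show 7 < chevB2.nroots by decide) (show _ = 7 by decide +kernel) μ']
    convert this using 1
    group
  have key := mul_mem (inv_mem h4) (mul_mem (mul_mem h5 h4) (inv_mem h5))
  unfold Pair
  convert key using 1
  have hc56 := comm_zero hc hcomm hS h1 (show 5 < chevB2.nroots by decide) (show 6 < chevB2.nroots by decide)
    (by decide) (by decide) (by decide +kernel) τ' τ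
  have hc74 := comm_zero hc hcomm hS h1 (show 7 < chevB2.nroots by decide) (show 4 < chevB2.nroots by decide)
    (by decide) (by decide) (by decide +kernel) μ' μ
  have hc76 := comm_zero hc hcomm hS h1 (show 7 < chevB2.nroots by decide) (show 6 < chevB2.nroots by decide)
    (by decide) (by decide) (by decide +kernel) μ' τ
  have hc7 : Commute (elX chevB2 F 7 μ') (elX chevB2 F 6 τ * elX chevB2 F 4 μ) := hc76.mul_right hc74
  have h2 := conj_a_b hc hcomm hS h1 τ' μ
  have e : elX chevB2 F 5 τ' * elX chevB2 F 7 μ' * (elX chevB2 F 6 τ * elX chevB2 F 4 μ) *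
      (elX chevB2 F 5 τ' * elX chevB2 F 7 μ')⁻¹ =
      elX chevB2 F 6 τ * elX chevB2 F 4 μ * (elX chevB2 F 6 (τ' * μ) * elX chevB2 F 7 (τ' ^ 2 * μ)) := by
    rw [mul_assoc (elX chevB2 F 5 τ'), hc7.eq]
    calc _ = (elX chevB2 F 5 τ' * elX chevB2 F 6 τ * (elX chevB2 F 5 τ')⁻¹) *
          (elX chevB2 F 5 τ' * elX chevB2 F 4 μ * (elX chevB2 F 5 τ')⁻¹) := by group
      _ = _ := by rw [h2, hc56.eq, mul_inv_cancel_right]; group
  rw [e]
  group

theorem diff_mem {τ μ : F} (h : Pair H τ μ) : μ + τ ^ 2 ∈ S := by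
  rw [← hS 7 (by decide)]
  have := pair_mul hc hcomm hS h1 h (pair_sq hc hcomm hS h1 h)
  simpa [Pair, CharTwo.add_self_eq_zero, elX_zero hc F (show 6 < chevB2.nroots by decide)] using this

theorem mix_mem {τ μ τ' μ' : F} (h : Pair H τ μ) (h' : Pair H τ' μ') : τ' ^ 2 * (μ + μ ^ 2) ∈ S := by
  have := diff_mem hc hcomm hS h1 (pair_mix hc hcomm hS h1 h h')
  rwa [mul_pow, ← mul_add] at this

variable (hadd : ∀ s t, s ∈ S → t ∈ S → s + t ∈ S) (hroot : ∀ t ∈ S, ∃ s ∈ S, s ^ 2 = t) (hfin : S.Finite)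
include hadd hroot hfin

/-- the parameters are closed under multiplication -/
theorem mul_mem_params {t u : F} (ht : t ∈ S) (hu : u ∈ S) : t * u ∈ S := by
  classical
  have h0 : (0 : F) ∈ S := by have := hadd 1 1 h1 h1; rwa [CharTwo.add_self_eq_zero] at this
  have hp : ∀ z ∈ S, Pair H z 0 := fun z hz => by
    unfold Pair; rw [elX_zero hc F (show 7 < chevB2.nroots by decide), mul_one]; exact (hS 6 (by decide) z).2 hz
  have hq : ∀ z ∈ S, Pair H 0 z := fun z hz => by
    unfold Pair; rw [elX_zero hc F (show 6 < chevB2.nroots by decide), one_mul]; exact (hS 7 (by decide) z).2 hz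
  -- the stabiliser
  let R : Set F := {z | ∀ s ∈ S, z * s ∈ S}
  have hRS : ∀ z ∈ R, z ∈ S := fun z hz => by simpa using hz 1 h1
  have hw : ∀ z ∈ S, z + z ^ 2 ∈ R := by
    intro z hz s hs
    obtain ⟨r, hr, rfl⟩ := hroot s hs
    have := mix_mem hc hcomm hS h1 (hq z hz) (hp r hr)
    rwa [mul_comm] at this
  have hRmul : ∀ a ∈ R, ∀ b ∈ R, a * b ∈ R := fun a ha b hb s hs => by rw [mul_assoc]; exact ha _ (hb s hs)
  have hRadd : ∀ a ∈ R, ∀ b ∈ R, a + b ∈ R := fun a ha b hb s hs => by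
    rw [add_mul]; exact hadd _ _ (ha s hs) (hb s hs)
  have hRinv : ∀ a ∈ R, a ≠ 0 → a⁻¹ ∈ R := by
    intro a ha hne s hs
    have hinj : Set.InjOn (fun x => a * x) S := fun x _ y _ e => mul_left_cancel₀ hne e
    have hsurj := ((hfin.injOn_iff_bijOn_of_mapsTo (fun x hx => ha x hx)).1 hinj).surjOn
    obtain ⟨x, hx, e⟩ := hsurj hs
    rwa [← e, inv_mul_cancel_left₀ hne]
  suffices hSR : ∀ s ∈ S, s ∈ R from hSR t ht u hu
  intro s hs
  by_contra hsR
  have hsmall : ∀ l ∈ R, l + l ^ 2 = 0 := by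
    intro l hl
    by_contra hne
    have h2 := hw (l * s) (hl s hs)
    have h3 : l ^ 2 * (s + s ^ 2) ∈ R := by rw [pow_two l]; exact hRmul _ (hRmul l hl l hl) _ (hw s hs)
    have h4 : (l + l ^ 2) * s ∈ R := by
      have h4' := hRadd _ h2 _ h3
      rwa [show l * s + (l * s) ^ 2 + l ^ 2 * (s + s ^ 2) = (l + l ^ 2) * s by
        linear_combination (l ^ 2 * s ^ 2) * CharTwo.two_eq_zero (R := F)] at h4'
    have h5 := hRmul _ (hRinv _ (by
      have := hRadd _ hl _ (hRmul l hl l hl); rwa [← pow_two] at this) hne) _ h4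
    rw [inv_mul_cancel_left₀ hne] at h5
    exact hsR h5
  have hS4 : ∀ z ∈ S, z + z ^ 2 = 0 ∨ z + z ^ 2 = 1 := by
    intro z hz
    rcases mul_eq_zero.1 (show (z + z ^ 2) * ((z + z ^ 2) + 1) = 0 by
      have := hsmall _ (hw z hz); linear_combination this) with h | h
    · exact Or.inl h
    · exact Or.inr (CharTwo.add_eq_zero.1 h)
  have hcase : ∀ z : F, z + z ^ 2 = 0 → z = 0 ∨ z = 1 := by
    intro z hz
    rcases mul_eq_zero.1 (show z * (z + 1) = 0 by linear_combination hz) with h | h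
    · exact Or.inl h
    · exact Or.inr (CharTwo.add_eq_zero.1 h)
  refine hsR fun z hz => ?_
  rcases hS4 z hz with hz1 | hz1
  · rcases hcase z hz1 with rfl | rfl
    · simpa using h0
    · simpa using hs
  · rcases hS4 s hs with hs1 | hs1
    · rcases hcase s hs1 with rfl | rfl
      · simpa using h0
      · simpa using hz
    · have hs2 : s ^ 2 = 1 + s := by
        have := CharTwo.add_eq_zero.1 (show s ^ 2 + (1 + s) = 0 by
          linear_combination hs1 + CharTwo.two_eq_zero (R := F))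
        exact this
      rcases hcase (s + z) (by linear_combination hs1 + hz1 + (s * z + 1) * CharTwo.two_eq_zero (R := F)) with e | e
      · rw [← CharTwo.add_eq_zero.1 e, ← pow_two, hs2]; exact hadd _ _ h1 hs
      · have hz' : z = s + 1 := by linear_combination e + (-s) * CharTwo.two_eq_zero (R := F) + 0 * hs1
        rw [hz', mul_add, mul_one, ← pow_two, hs2, add_assoc, CharTwo.add_self_eq_zero, add_zero]
        exact h1

/-- the central coordinates of `H` are parameters -/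
theorem pair_params {τ μ : F} (h : Pair H τ μ) : τ ∈ S ∧ μ ∈ S := by
  suffices hτ : τ ^ 2 ∈ S by
    obtain ⟨r, hr, e⟩ := hroot _ hτ
    have hτ' : τ ∈ S := by rwa [← frobenius_inj F 2 (show frobenius F 2 r = frobenius F 2 τ from e)]
    refine ⟨hτ', (hS 7 (by decide) μ).1 ?_⟩
    have := mul_mem (inv_mem ((hS 6 (by decide) τ).2 hτ')) h
    rwa [inv_mul_cancel_left] at this
  have hmul := @mul_mem_params F _ _ T hc hcomm H S hS h1 hadd hroot hfin
  have hd := diff_mem hc hcomm hS h1 h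
  have hμμ := pair_diag hc hcomm hS h1 h
  have hm := diff_mem hc hcomm hS h1 hμμ.2
  by_cases hw : μ + μ ^ 2 = 0
  · rcases mul_eq_zero.1 (show μ * (μ + 1) = 0 by linear_combination hw) with e | e
    · rwa [e, zero_add] at hd
    · rw [CharTwo.add_eq_zero.1 e] at hd
      have := hadd _ _ hd h1
      rwa [add_comm, ← add_assoc, CharTwo.add_self_eq_zero, zero_add] at this
  · have hinj : Set.InjOn (fun x => (μ + μ ^ 2) * x) S := fun x _ y _ e => mul_left_cancel₀ hw e
    have hsurj := ((hfin.injOn_iff_bijOn_of_mapsTo (fun x hx => hmul hm hx)).1 hinj).surjOn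
    obtain ⟨x, hx, e⟩ := hsurj (mix_mem hc hcomm hS h1 h h)
    dsimp only at e
    rw [mul_comm (τ ^ 2)] at e
    rwa [mul_left_cancel₀ hw e] at hx

end

end CfsgLib.SubfieldOver
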