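import Cfsg.Agent.Lib.SubfieldOver.Unip

/-!
# The central roots, and the Borel elements of `H`
-/

set_option autoImplicit false
set_option linter.unusedSectionVars false
set_option maxHeartbeats 800000

namespace CfsgLib.SubfieldOver

open Cfsg.Lie CfsgLib.Chev CfsgLib.ChevField CfsgLib.ChevCent

variable {D : ChevalleyDatum} {T : Tabs} {F : Type*} [Field F]

/-- the highest root -/
def top (D : ChevalleyDatum) : ℕ := D.nroots - 1

/-- every positive root outside `bad` has a partner with a coefficient in `good` up to sign; the commutator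
coefficients of the roots in `bad` are multiples of `m` -/
def dichCheck (D : ChevalleyDatum) (bad good : List ℕ) (m : ℕ) : Bool :=
  (List.range D.nroots).all fun s => decide (s < D.nroots / 2) ||
    if bad.contains s then
      (List.range D.nroots).all fun a => decide (a < D.nroots / 2) || a == s ||
        (D.commTerms a s).all fun q => q.2.1.natAbs % m == 0
    else
      (List.range D.nroots).any fun a => decide (D.nroots / 2 ≤ a) && a != s &&
        match D.commTerms a s with
        | (v, e, 1, 1) :: rest => good.contains e.natAbs && rest.all fun q => decide (v < q.1)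
        | _ => false

/-- the two central roots and the reflections moving them -/
structure CtrData (D : ChevalleyDatum) (T : Tabs) (F : Type*) [Field F] : Type where
  dich : Dich D F
  low : ℕ
  low_lt : low < D.nroots
  ctr_low : Ctr D F low
  ctr_top : Ctr D F (top D)
  ctr_cases : ∀ s, s < D.nroots → Ctr D F s → s = top D ∨ s = low
  i : Fin D.rank
  i_top : Pos D (sig D T i (top D)) ∧ ¬ Ctr D F (sig D T i (top D))
  i_low : low ≠ top D → sig D T i low = low
  j : Fin D.rank
  j_low : Pos D (sig D T j low) ∧ ¬ Ctr D F (sig D T j low)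

theorem pos_top (hn : 0 < D.nroots) : Pos D (top D) := by
  show D.nroots / 2 ≤ D.nroots - 1
  omega

theorem dich_of_check {bad good : List ℕ} {m : ℕ} (h : dichCheck D bad good m = true) (hm : (m : F) = 0)
    (hgood : ∀ g ∈ good, ((g : ℕ) : F) ≠ 0) :
    Dich D F ∧ (∀ s, s < D.nroots → Pos D s → (Ctr D F s ↔ s ∈ bad)) := by
  simp only [dichCheck, List.all_eq_true, List.mem_range, Bool.or_eq_true, decide_eq_true_eq] at h
  have hbad : ∀ s, s < D.nroots → Pos D s → s ∈ bad → Ctr D F s := by
    intro s hs hp hb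
    have h1 := (h s hs).resolve_left (by have : D.nroots / 2 ≤ s := hp; omega)
    rw [if_pos (List.contains_iff_mem.2 hb)] at h1
    simp only [List.all_eq_true, List.mem_range, Bool.or_eq_true, decide_eq_true_eq, beq_iff_eq] at h1
    refine ⟨hp, fun a ha hap hne q hq => ?_⟩
    rcases h1 a ha with (h2 | h2) | h2
    · have : D.nroots / 2 ≤ a := hap
      omega
    · exact absurd h2 hne
    · obtain ⟨k, hk⟩ := Nat.dvd_of_mod_eq_zero (h2 q hq)
      rcases Int.natAbs_eq q.2.1 with e | e <;> rw [e, hk] <;> push_cast <;> simp [hm]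
  have hgoodp : ∀ s, s < D.nroots → Pos D s → s ∉ bad → Partner D F s := by
    intro s hs hp hb
    have h1 := (h s hs).resolve_left (by have : D.nroots / 2 ≤ s := hp; omega)
    rw [if_neg (fun hh => hb (List.contains_iff_mem.1 hh))] at h1
    simp only [List.any_eq_true, List.mem_range, Bool.and_eq_true, decide_eq_true_eq, bne_iff_ne] at h1
    obtain ⟨a, ha, ⟨hap, hne⟩, hmatch⟩ := h1
    split at hmatch
    case h_2 => exact absurd hmatch Bool.false_ne_true
    rename_i v e rest heq
    simp only [Bool.and_eq_true, List.all_eq_true, decide_eq_true_eq, List.contains_iff_mem] at hmatch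
    refine ⟨a, v, e, rest, ha, hap, hne, heq, fun h0 => hgood _ hmatch.1 ?_, hmatch.2⟩
    rcases Int.natAbs_eq e with e' | e' <;> rw [e'] at h0 <;> simpa using h0
  refine ⟨fun s hs hp => ?_, fun s hs hp => ⟨fun hC => ?_, hbad s hs hp⟩⟩
  · by_cases hb : s ∈ bad
    · exact Or.inl (hbad s hs hp hb)
    · exact Or.inr (hgoodp s hs hp hb)
  · by_contra hb
    obtain ⟨a, v, e, rest, ha, hap, hne, ht, he, -⟩ := hgoodp s hs hp hb
    exact he (hC.2 a ha hap hne _ (ht ▸ List.mem_cons_self))

section
variable (hc : Checked D T) (hcomm : CommOne D T)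
include hc hcomm

theorem ctr_split (C : CtrData D T F) {z : GL D.Idx F} (hz : z ∈ uGen D F (Ctr D F)) :
    ∃ τ μ : F, (C.low = top D → τ = 0) ∧ z = elX D F C.low τ * elX D F (top D) μ := by
  classical
  obtain ⟨d, hd, rfl⟩ := mem_ctr hc hcomm (fun _ h => h) hz
  have hn : top D < D.nroots := by have := C.low_lt; unfold top; omega
  set τ : F := if C.low = top D then 0 else d C.low with hτ
  set μ : F := d (top D) with hμ
  refine ⟨τ, μ, fun e => by rw [hτ, if_pos e], ?_⟩
  rw [← posProd_single hc C.low_lt C.ctr_low.1 τ, ← posProd_single hc hn C.ctr_top.1 μ,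
    posProd_add hc hcomm fun r hr _ h => ?_]
  · refine uProd_congr fun r hr => ?_
    obtain ⟨hrn, -⟩ := mem_posRoots.1 hr
    simp only [Pi.add_apply, Pi.single_apply, hτ, hμ]
    by_cases h0 : d r = 0
    · by_cases e1 : r = C.low
      · subst e1
        by_cases e2 : C.low = top D
        · rw [← e2]; simp [h0]
        · simp [h0, e2]
      · by_cases e2 : r = top D
        · subst e2; simp [h0, e1]
        · simp [h0, e1, e2]
    · rcases C.ctr_cases r hrn (hd r hrn h0) with rfl | rfl
      · by_cases e2 : C.low = top D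
        · simp [e2]
        · simp [Ne.symm e2]
      · by_cases e2 : C.low = top D
        · simp [e2]
        · simp [e2]
  · by_contra hC
    exact h (Pi.single_eq_of_ne (fun (e : r = top D) => hC (by rw [e]; exact C.ctr_top)) _)

variable {σ : F →+* F} {H : Subgroup (GL D.Idx F)} (hH : Over D σ H)
include hH

/-- the elements of `H` in the Borel subgroup are fixed -/
theorem borel_fixed (C : CtrData D T F) (hU : ∀ u ∈ uGen D F (Pos D), u ∈ H → glMap D σ u = u) {g : GL D.Idx F}
    (hgB : g ∈ D.borelSubgroup F) (hgH : g ∈ H) : glMap D σ g = g := by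
  obtain ⟨u, hu, d, hd, rfl⟩ := (mem_borel hc).1 hgB
  obtain ⟨hdfix, hw⟩ := borel_core hc hcomm hH C.dich hU hu hd hgH
  obtain ⟨u₀, hu₀, hσu₀, z, hz, rfl⟩ := almost_fixed hc hcomm σ hu hw
  obtain ⟨τ, μ, h0, rfl⟩ := ctr_split hc hcomm C hz
  have hn : top D < D.nroots := by have := C.low_lt; unfold top; omega
  have hg' : elX D F C.low τ * elX D F (top D) μ * d ∈ H := by
    have := mul_mem (inv_mem (fixed_pos_mem hc hcomm hH hu₀ hσu₀)) hgH
    convert this using 1
    group
  have hcm : elX D F C.low τ * elX D F (top D) μ = elX D F (top D) μ * elX D F C.low τ :=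
    (ctr_commute hc hcomm C.low_lt C.ctr_low τ (elX_mem_uGen hn C.ctr_top.1 μ)).eq
  have hμ : σ μ = μ := by
    by_cases e : C.low = top D
    · rw [hcm, h0 e, elX_zero hc F C.low_lt] at hg'
      exact move hc hcomm hH C.dich hU C.i hn C.i_top.1 C.i_top.2 (P := fun _ => False) (fun _ _ h => h.elim) μ
        (one_mem _) hd hg'
    · rw [hcm] at hg'
      refine move hc hcomm hH C.dich hU C.i hn C.i_top.1 C.i_top.2 (P := fun r => r = C.low) (fun r _ hr => ?_) μ
        (elX_mem_uGen C.low_lt (P := fun r => r = C.low) rfl τ) hd hg'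
      subst hr
      rw [C.i_low e]
      exact C.ctr_low
  have hg'' : elX D F C.low τ * 1 * d ∈ H := by
    have := mul_mem (hH.root _ hn (-μ) (by rw [map_neg, hμ])) hg'
    convert this using 1
    rw [hcm, mul_one, ← mul_assoc, ← mul_assoc, elX_add hc F hn, neg_add_cancel, elX_zero hc F hn, one_mul]
  have hτ : σ τ = τ := move hc hcomm hH C.dich hU C.j C.low_lt C.j_low.1 C.j_low.2 (P := fun _ => False)
    (fun _ _ h => h.elim) τ (one_mem _) hd hg''
  rw [map_mul, map_mul, map_mul, hσu₀, hdfix, glMap_elX hc σ C.low_lt, glMap_elX hc σ hn, hτ, hμ]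

/-- the central elements of `H` are fixed when one commutator isolates the top coordinate -/
theorem central_fixed (C : CtrData D T F) {a : ℕ} {e : ℤ} (ha : a < D.nroots) (hap : Pos D a)
    (hne : a ≠ sig D T C.i (top D)) (he : e.natAbs = 1)
    (hterm : D.commTerms a (sig D T C.i (top D)) = [(top D, e, 1, 1)]) {z : GL D.Idx F}
    (hz : z ∈ uGen D F (Ctr D F)) (hzH : z ∈ H) : glMap D σ z = z := by
  obtain ⟨τ, μ, h0, rfl⟩ := ctr_split hc hcomm C hz
  have hn : top D < D.nroots := by have := C.low_lt; unfold top; omega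
  suffices hμ : σ μ = μ by
    have hτ : σ τ = τ := hH.exact _ C.low_lt τ (by
      have := mul_mem hzH (inv_mem (hH.root _ hn μ hμ))
      rwa [mul_inv_cancel_right] at this)
    rw [map_mul, glMap_elX hc σ C.low_lt, glMap_elX hc σ hn, hτ, hμ]
  by_cases hlow : C.low = top D
  · rw [h0 hlow, elX_zero hc F C.low_lt, one_mul] at hzH
    exact hH.exact _ hn μ hzH
  obtain ⟨c₁, -, hx₁⟩ := nProd_conj_elX hc (F := F) [C.i] C.low_lt
  obtain ⟨c₂, hc₂, hx₂⟩ := nProd_conj_elX hc (F := F) [C.i] hn
  rw [show sigs D T [C.i] C.low = C.low from C.i_low hlow] at hx₁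
  set γ := sigs D T [C.i] (top D)
  have hγ : γ < D.nroots := sigs_lt hc _ hn
  have hγp : Pos D γ := C.i_top.1
  have hu : elX D F C.low ((c₁ : F) * τ) * elX D F γ ((c₂ : F) * μ) ∈ H := by
    have := mul_mem (mul_mem (nProd_mem hc hH [C.i]) hzH) (inv_mem (nProd_mem hc hH [C.i]))
    convert this using 1
    rw [← hx₁ τ, ← hx₂ μ]
    group
  set m := (c₂ : F) * μ
  set x := elX D F C.low ((c₁ : F) * τ)
  set a1 := elX D F a 1
  have ha1 : a1 ∈ H := hH.root a ha 1 (map_one σ)
  have hxa : a1 * x = x * a1 := (ctr_commute hc hcomm C.low_lt C.ctr_low _ (elX_mem_uGen ha hap 1)).eq.symm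
  have hconj : a1 * elX D F γ m * a1⁻¹ = elX D F γ m * elX D F (top D) ((e : F) * m) := by
    have h := elX_conj_elX hc hcomm (F := F) ha hγ (Ne.symm hne) (ne_neg_of_pos hc ha hap hγp) 1 m
    have hterm' : D.commTerms a γ = [(top D, e, 1, 1)] := hterm
    simpa [a1, wordGL, ChevalleyDatum.commWord, hterm'] using h
  have hX : elX D F (top D) ((e : F) * m) ∈ H := by
    have h1 := mul_mem (mul_mem (mul_mem ha1 hu) (inv_mem ha1)) (inv_mem hu)
    have hc1 : Commute (elX D F (top D) ((e : F) * m)) (x * elX D F γ m) :=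
      ctr_commute hc hcomm hn C.ctr_top _ (mul_mem (elX_mem_uGen C.low_lt C.ctr_low.1 _) (elX_mem_uGen hγ hγp _))
    have e1 : a1 * (x * elX D F γ m) * a1⁻¹ = elX D F (top D) ((e : F) * m) * (x * elX D F γ m) := by
      rw [hc1.eq, mul_assoc x, ← hconj]
      calc a1 * (x * elX D F γ m) * a1⁻¹ = a1 * x * (a1⁻¹ * a1) * elX D F γ m * a1⁻¹ := by group
        _ = x * (a1 * elX D F γ m * a1⁻¹) := by rw [hxa]; group
    rw [e1, mul_inv_cancel_right] at h1
    exact h1
  have h1 := hH.exact _ hn _ hX
  rw [map_mul, map_intCast] at h1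
  have he1 : (e : F) ≠ 0 := by rcases Int.natAbs_eq e with h | h <;> rw [h, he] <;> simp
  have h2 := mul_left_cancel₀ he1 h1
  rcases hc₂ with h | h <;> simp only [m, h] at h2
  · rwa [one_mul] at h2
  · rw [neg_one_mul, map_neg, neg_inj] at h2; exact h2

end

end CfsgLib.SubfieldOver
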