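import Cfsg.Agent.Lib.SubfieldOver.Params

/-!
# Finite root-system facts used at the end of the proof
-/

set_option autoImplicit false
set_option maxHeartbeats 800000

namespace CfsgLib.SubfieldOver

open Cfsg.Lie CfsgLib.Chev

/-- `b ≠ ±a`, and the commutator of the two root groups is trivial or is one root group centralised by both -/
def pairTest (D : ChevalleyDatum) (a b : ℕ) : Bool :=
  decide (b ≠ a) && decide (b ≠ D.neg a) &&
    match D.commTerms a b with
    | [] => true
    | [(v, e, i, j)] => decide (v < D.nroots) && decide (i = 1) && decide (j = 1) && decide (e.natAbs = 1) &&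
        decide (v ≠ a) && decide (v ≠ D.neg a) && decide (v ≠ b) && decide (v ≠ D.neg b) &&
        (D.commTerms a v).isEmpty && (D.commTerms b v).isEmpty
    | _ => false

/-- the facts about the highest root, a long simple root `d`, and either a short simple root `ia` or a commuting
pair of simple roots `ia`, `ib` -/
def endTest (D : ChevalleyDatum) (Lg : ℕ → Bool) (d : ℕ) (ia ib : Fin D.rank) : Bool :=
  (decide (0 < D.nroots) && Lg (D.nroots - 1)) &&
  ((List.range D.rank).all fun i => (List.range D.nroots).all fun r => Lg (D.reflectRoot i r) == Lg r) &&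
  ((List.range (D.nroots / 2)).all fun b =>
    !Lg b || decide (b = D.neg (D.nroots - 1)) || pairTest D (D.nroots - 1) b) &&
  ((List.range D.nroots).all fun r => decide (r < D.nroots / 2) || decide (r = D.nroots - 1) ||
    ((D.commTerms r (D.nroots - 1)).isEmpty && (decide (D.pairing (D.nroots - 1) r = 1) ||
      (decide (D.pairing (D.nroots - 1) r = 0) && (D.commTerms r (D.neg (D.nroots - 1))).isEmpty)))) &&
  ((List.range D.nroots).any fun r => decide (D.pairing (D.nroots - 1) r = 1)) &&
  (decide (d < D.nroots) && decide (D.nroots / 2 ≤ d) && decide (d ≠ D.nroots - 1) &&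
    pairTest D d (D.neg (D.nroots - 1))) &&
  (if ia = ib then !Lg (D.simple ia.val) else
    decide (D.simple ia.val < D.simple ib.val) && (D.commTerms (D.simple ia.val) (D.simple ib.val)).isEmpty)

theorem endTest_G2 : endTest chevG2 lgG2 6 ⟨0, by decide⟩ ⟨0, by decide⟩ = true := by decide +kernel
theorem endTest_B2 : endTest chevB2 lgB2 4 ⟨0, by decide⟩ ⟨0, by decide⟩ = true := by decide +kernel
theorem endTest_D4 : endTest chevD4 (fun _ => true) 12 ⟨2, by decide⟩ ⟨0, by decide⟩ = true := by decide +kernel
theorem endTest_F4 : endTest chevF4 lgF4 24 ⟨0, by decide⟩ ⟨0, by decide⟩ = true := by decide +kernel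
theorem endTest_E6 : endTest chevE6 (fun _ => true) 36 ⟨5, by decide⟩ ⟨0, by decide⟩ = true := by decide +kernel
theorem endTest_E7 : endTest chevE7 (fun _ => true) 63 ⟨6, by decide⟩ ⟨0, by decide⟩ = true := by decide +kernel
theorem endTest_E8 : endTest chevE8 (fun _ => true) 120 ⟨7, by decide⟩ ⟨0, by decide⟩ = true := by decide +kernel

end CfsgLib.SubfieldOver
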