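import Cfsg.Agent.Lib.SubfieldOver.Main
import Mathlib.FieldTheory.Finite.GaloisField
import Mathlib.FieldTheory.IsAlgClosed.Basic

/-!
# Counting the fixed points of powers of the Frobenius map, and the root elements fixed by them
-/

set_option autoImplicit false
set_option linter.unusedSectionVars false
set_option maxHeartbeats 800000

namespace CfsgLib.SubfieldOver

open Cfsg.Lie CfsgLib.Chev CfsgLib.ChevField Polynomial

variable {F : Type*} [Field F] (p : ℕ) [Fact p.Prime] [CharP F p]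

/-- the fixed points of the `a`-th power of the Frobenius map are `p ^ a` when its polynomial splits -/
theorem fixed_ncard {a : ℕ} (ha : 1 ≤ a) (h : (X ^ p ^ a - X : F[X]).Splits) :
    {t : F | t ^ p ^ a = t}.ncard = p ^ a := by
  classical
  have hq : 1 < p ^ a := Nat.one_lt_pow (by omega) (Fact.out : p.Prime).one_lt
  have hne : (X ^ p ^ a - X : F[X]) ≠ 0 := FiniteField.X_pow_card_sub_X_ne_zero F hq
  have hnd := nodup_roots (galois_poly_separable (K := F) p (p ^ a) (dvd_pow_self p (by omega)))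
  have e : {t : F | t ^ p ^ a = t} = ↑((X ^ p ^ a - X : F[X]).roots.toFinset) := by
    ext t
    simp [mem_roots hne, sub_eq_zero]
  rw [e, Set.ncard_coe_finset, Multiset.toFinset_card_of_nodup hnd, ← h.natDegree_eq_card_roots,
    FiniteField.X_pow_card_sub_X_natDegree_eq F hq]

/-- an inclusion of the fixed fields is a divisibility of the exponents -/
theorem dvd_of_fixed {a b : ℕ} (ha : 1 ≤ a) (hcard : {t : F | t ^ p ^ a = t}.ncard = p ^ a)
    (h : ∀ t : F, t ^ p ^ a = t → t ^ p ^ b = t) : a ∣ b := by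
  classical
  rw [Nat.dvd_iff_mod_eq_zero]
  by_contra hne
  have hlt : b % a < a := Nat.mod_lt _ (by omega)
  have hsub : ∀ t : F, t ^ p ^ a = t → t ^ p ^ (b % a) = t := by
    intro t ht
    have hj : ∀ j, t ^ p ^ (a * j) = t := by
      intro j
      induction j with
      | zero => simp
      | succ j ih => rw [Nat.mul_succ, pow_add, pow_mul, ih, ht]
    have hb := h t ht
    rwa [← Nat.div_add_mod b a, pow_add, pow_mul, hj] at hb
  have hq : 1 < p ^ (b % a) := Nat.one_lt_pow hne (Fact.out : p.Prime).one_lt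
  have hne' : (X ^ p ^ (b % a) - X : F[X]) ≠ 0 := FiniteField.X_pow_card_sub_X_ne_zero F hq
  have hle : {t : F | t ^ p ^ a = t} ⊆ ↑((X ^ p ^ (b % a) - X : F[X]).roots.toFinset) := by
    intro t ht
    simp [mem_roots hne', sub_eq_zero, hsub t ht]
  have h1 := Set.ncard_le_ncard hle (Finset.finite_toSet _)
  rw [hcard, Set.ncard_coe_finset] at h1
  have h2 := h1.trans ((Multiset.toFinset_card_le _).trans (card_roots' _))
  rw [FiniteField.X_pow_card_sub_X_natDegree_eq F hq] at h2
  exact absurd h2 (not_le.2 (Nat.pow_lt_pow_right (Fact.out : p.Prime).one_lt hlt))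

variable {D : ChevalleyDatum} {T : Tabs}

section
variable (hc : Checked D T)
include hc

theorem eq_elX {g : GL D.Idx F} {s : ℕ} {t : F} (hs : s < D.nroots)
    (h : (g : Matrix D.Idx D.Idx F) = D.x F s t) : g = elX D F s t := by
  ext1
  rw [h, coe_elX hc F hs, ChevalleyDatum.x, dif_pos hs]

theorem elX_x {s : ℕ} (hs : s < D.nroots) (t : F) :
    (elX D F s t : Matrix D.Idx D.Idx F) = D.x F s t := by
  rw [coe_elX hc F hs, ChevalleyDatum.x, dif_pos hs]

/-- a group containing the root elements with fixed parameters contains their closure -/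
theorem closure_le {H : Subgroup (GL D.Idx F)} {n : ℕ}
    (h : ∀ r, r < D.nroots → ∀ t : F, t ^ n = t → elX D F r t ∈ H) :
    Subgroup.closure {g : GL D.Idx F | ∃ (s : ℕ) (t : F), t ^ n = t ∧
      (g : Matrix D.Idx D.Idx F) = D.x F s t} ≤ H := by
  rw [Subgroup.closure_le]
  rintro g ⟨s, t, ht, hg⟩
  by_cases hs : s < D.nroots
  · rw [eq_elX hc hs hg]; exact h s hs t ht
  · rw [ChevalleyDatum.x, dif_neg hs] at hg
    rw [show g = 1 from Units.ext hg]
    exact one_mem H

end

omit [Fact p.Prime] [CharP F p] in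
theorem entries_fixed [ExpChar F p] {n : ℕ} {g : GL D.Idx F} (h : glMap D (iterateFrobenius F p n) g = g) (i j : D.Idx) :
    ((g : Matrix D.Idx D.Idx F) i j) ^ p ^ n = (g : Matrix D.Idx D.Idx F) i j := by
  have e := congrArg (fun g : GL D.Idx F => (g : Matrix D.Idx D.Idx F) i j) h
  simpa [glMap_coe, iterateFrobenius_def] using e

omit [Fact p.Prime] [CharP F p] in
theorem fixed_of_entries [ExpChar F p] {n : ℕ} {g : GL D.Idx F}
    (h : ∀ i j : D.Idx, ((g : Matrix D.Idx D.Idx F) i j) ^ p ^ n = (g : Matrix D.Idx D.Idx F) i j) :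
    glMap D (iterateFrobenius F p n) g = g := by
  ext i j
  simpa [glMap_coe, iterateFrobenius_def] using h i j

/-- finite groups over an algebraically closed field containing the points over a finite subfield -/
theorem overgroups [IsAlgClosed F] (hD : D ∈ [chevG2, chevB2, chevD4, chevF4, chevE6, chevE7, chevE8]) {a : ℕ}
    (ha : 1 ≤ a) {M : Subgroup (GL D.Idx F)} (hfin : Finite M) (hle : M ≤ D.group F)
    (hL : Subgroup.closure {g : GL D.Idx F | ∃ (s : ℕ) (t : F), t ^ (p ^ a) = t ∧
      (g : Matrix D.Idx D.Idx F) = D.x F s t} ≤ M) :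
    ∃ r : ℕ, 1 ≤ r ∧ Subgroup.closure {g : GL D.Idx F | ∃ (s : ℕ) (t : F), t ^ ((p ^ a) ^ r) = t ∧
        (g : Matrix D.Idx D.Idx F) = D.x F s t} ≤ M ∧
      ∀ g ∈ M, ∀ i j : D.Idx, ((g : Matrix D.Idx D.Idx F) i j) ^ ((p ^ a) ^ r) = (g : Matrix D.Idx D.Idx F) i j := by
  obtain ⟨T, hc, hcomm⟩ := exists_checked' hD
  have hmem : ∀ r, r < D.nroots → ∀ t : F, t ^ p ^ a = t → elX D F r t ∈ M := fun r hr t ht =>
    hL (Subgroup.subset_closure ⟨r, t, ht, elX_x hc hr t⟩)
  obtain ⟨m, hm, hiff, -, hfix⟩ := exists_field hD p hfin hle fun r hr => hmem r hr 1 (one_pow _)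
  have hn : 0 < D.nroots := by
    simp only [List.mem_cons, List.not_mem_nil, or_false] at hD
    rcases hD with rfl | rfl | rfl | rfl | rfl | rfl | rfl <;> decide
  obtain ⟨r, rfl⟩ := dvd_of_fixed p ha (fixed_ncard p ha (IsAlgClosed.splits _))
    fun t ht => (hiff 0 hn t).1 (hmem 0 hn t ht)
  refine ⟨r, Nat.pos_of_ne_zero (fun e => by simp [e] at hm), ?_, fun g hg i j => ?_⟩
  · rw [← pow_mul]
    exact closure_le hc fun s hs t ht => (hiff s hs t).2 ht
  · rw [← pow_mul]
    exact entries_fixed p (hfix g hg) i j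

/-- the subfield subgroups of prime degree are maximal -/
theorem maximal [Fintype F] (hD : D ∈ [chevG2, chevB2, chevD4, chevF4, chevE6, chevE7, chevE8]) {a r : ℕ} (ha : 1 ≤ a)
    (hr : r.Prime) (hK : Fintype.card F = (p ^ a) ^ r) {M : Subgroup (GL D.Idx F)}
    (hM : ∀ g : GL D.Idx F, g ∈ M ↔ g ∈ D.group F ∧
      ∀ i j : D.Idx, ((g : Matrix D.Idx D.Idx F) i j) ^ (p ^ a) = (g : Matrix D.Idx D.Idx F) i j) :
    M ≠ D.group F ∧ ∀ H : Subgroup (GL D.Idx F), M ≤ H → H ≤ D.group F → H = M ∨ H = D.group F := by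
  classical
  obtain ⟨T, hc, hcomm⟩ := exists_checked' hD
  have hn : 0 < D.nroots := by
    simp only [List.mem_cons, List.not_mem_nil, or_false] at hD
    rcases hD with rfl | rfl | rfl | rfl | rfl | rfl | rfl <;> decide
  have hall : ∀ t : F, t ^ p ^ (a * r) = t := fun t => by rw [pow_mul, ← hK]; exact FiniteField.pow_card t
  have hcard : {t : F | t ^ p ^ a = t}.ncard = p ^ a := by
    refine fixed_ncard p ha (Splits.of_dvd ?_ ?_ (dvd_pow_pow_sub_self_of_dvd (dvd_mul_right a r)))
    · rw [pow_mul, ← hK, splits_iff_card_roots, FiniteField.roots_X_pow_card_sub_X,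
        FiniteField.X_pow_card_sub_X_natDegree_eq F Fintype.one_lt_card]
      rfl
    · rw [pow_mul, ← hK]
      exact FiniteField.X_pow_card_sub_X_ne_zero F Fintype.one_lt_card
  have hone : ∀ s, s < D.nroots → ∀ t : F, t ^ p ^ a = t → elX D F s t ∈ M := fun s hs t ht =>
    (hM _).2 ⟨elX_mem_group hc hs t, entries_fixed p (by rw [glMap_elX hc _ hs, iterateFrobenius_def, ht])⟩
  refine ⟨fun e => ?_, fun H hMH hHG => ?_⟩
  · have hsub : ∀ t : F, t ^ p ^ a = t := fun t => by
      have h := fixed_of_entries p ((hM _).1 (e ▸ elX_mem_group hc hn t : elX D F 0 t ∈ M)).2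
      have h' := (elX_fixed hc (iterateFrobenius F p a) hn).1 h
      rwa [iterateFrobenius_def] at h'
    rw [show {t : F | t ^ p ^ a = t} = Set.univ from Set.eq_univ_of_forall hsub, Set.ncard_univ,
      Nat.card_eq_fintype_card, hK, ← pow_mul] at hcard
    have h1 := Nat.pow_right_injective (Fact.out : p.Prime).two_le hcard
    have := Nat.mul_lt_mul_of_pos_left hr.one_lt (by omega : 0 < a)
    omega
  obtain ⟨m, hm, hiff, hmcard, hfix⟩ := exists_field hD p (H := H) inferInstance hHG
    fun s hs => hMH (hone s hs 1 (one_pow _))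
  obtain ⟨k, rfl⟩ := dvd_of_fixed p ha hcard fun t ht => (hiff 0 hn t).1 (hMH (hone 0 hn t ht))
  have hk : k ∣ r := Nat.dvd_of_mul_dvd_mul_left (by omega : 0 < a)
    (dvd_of_fixed p hm hmcard fun t _ => hall t)
  rcases (Nat.dvd_prime hr).1 hk with rfl | rfl
  · refine Or.inl (le_antisymm (fun g hg => (hM g).2 ⟨hHG hg, ?_⟩) hMH)
    rw [mul_one] at hfix
    exact entries_fixed p (hfix g hg)
  · refine Or.inr (le_antisymm hHG ?_)
    rw [group_eq hc, uGen_le_iff]
    exact fun s hs _ t => (hiff s hs t).2 (hall t)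

end CfsgLib.SubfieldOver
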