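import Cfsg.Agent.Lib.SubfieldOver.Unip
import Cfsg.Agent.Lib.ChevCent.Optimal
import Cfsg.Agent.Lib.Chev.Parabolic
import Mathlib.GroupTheory.Sylow

/-!
# Parabolic subgroups and centralisers of fixed `p`-elements
-/

set_option autoImplicit false
set_option linter.unusedSectionVars false
set_option linter.style.haveILetI false
set_option maxHeartbeats 800000

namespace CfsgLib.SubfieldOver

open Cfsg.Lie CfsgLib.Chev CfsgLib.ChevField CfsgLib.ChevCent

variable {D : ChevalleyDatum} {T : Tabs} {F : Type*} [Field F]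

section
variable (hc : Checked D T)
include hc

/-- a standard parabolic subgroup meets the opposite radical trivially -/
theorem parabolic_inf_opp (hcomm : CommOne D T) (J : Set ℕ) {g : GL D.Idx F} (hg : g ∈ D.parabolicSubgroup F J)
    (hv : g ∈ uGen D F (fun r => OutRoot D J (D.neg r))) : g = 1 := by
  classical
  have hle1 : ∀ r, r < D.nroots → OutRoot D J r → 1 ≤ outLevel D J (rv D T r) := by
    intro r hr h
    obtain ⟨hp, j, hj, hne⟩ := (outRoot_iff hc hr).1 h
    have hnn : ∀ i : Fin D.rank, 0 ≤ (if (i : ℕ) ∈ J then 0 else rv D T r i) := fun i => by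
      split
      · exact le_rfl
      · exact rv_nonneg hc hr hp i
    have hj1 : 1 ≤ rv D T r j := by have := rv_nonneg hc hr hp j; omega
    rw [outLevel]
    refine le_trans ?_ (Finset.single_le_sum (fun i _ => hnn i) (Finset.mem_univ j))
    rw [if_neg hj]; exact hj1
  have hV := raises_uGen hc (f := fun v => -outLevel D J v) (fun a b => by rw [outLevel_add]; ring)
    (fun c a => by rw [outLevel_smul]; ring) (d := 1) (by norm_num)
    (fun r hr h => by have := hle1 _ (neg_lt hc hr) h; rwa [rv_neg hc hr, outLevel_neg] at this) hv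
  have hP : Raises D T (outLevel D J) 0 (g : Matrix D.Idx D.Idx F) := by
    obtain ⟨hN, hsup, -⟩ := levi_decomposition hc hcomm J (F := F)
    rw [← hsup] at hg
    rw [← SetLike.mem_coe, Subgroup.coe_mul_of_right_le_normalizer_left _ _
      (le_trans (le_trans le_sup_right hsup.le) hN)] at hg
    obtain ⟨r, hr, l, hl, rfl⟩ := hg
    rw [SetLike.mem_coe, unipotentRadical_eq hc] at hr
    rw [Units.val_mul]
    refine (raises_uGen hc (outLevel_add J) (outLevel_smul J) le_rfl (fun r hr h => ?_) hr).mul le_rfl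
      fun x y h => ?_
    · have := hle1 r hr h; omega
    · by_cases e : x = y
      · rw [e, add_zero]
      · rw [Matrix.one_apply_ne e] at h
        rw [levi_flat hc hl x y h, add_zero]
  ext x y
  by_contra h
  have h1 := hV x y h
  have h2 := hP x y h
  dsimp only at h1
  omega

/-- an element of `p`-power order in the Borel subgroup is unipotent -/
theorem borel_pow_mem (p : ℕ) [Fact p.Prime] [CharP F p] {x : GL D.Idx F} (hx : x ∈ D.borelSubgroup F) {k : ℕ}
    (hk : x ^ p ^ k = 1) : x ∈ uGen D F (Pos D) := by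
  obtain ⟨u, hu, d, hd, rfl⟩ := (mem_borel hc).1 hx
  have key : ∀ n : ℕ, ∃ u' ∈ uGen D F (Pos D), (u * d) ^ n = u' * d ^ n := by
    intro n
    induction n with
    | zero => exact ⟨1, one_mem _, by rw [pow_zero, pow_zero, one_mul]⟩
    | succ n ih =>
      obtain ⟨u', hu', e⟩ := ih
      refine ⟨u' * (d ^ n * u * (d ^ n)⁻¹), mul_mem hu' (diag_conj_mem hc _ (pow_mem hd n) hu), ?_⟩
      rw [pow_succ, e, pow_succ]
      group
  obtain ⟨u', hu', e⟩ := key (p ^ k)
  rw [hk] at e
  have hd1 : d ^ p ^ k = 1 := by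
    have h := pos_inf_diag hc (inv_mem hu') (eq_inv_of_mul_eq_one_right e.symm ▸ pow_mem hd _)
    rw [eq_inv_of_mul_eq_one_right e.symm, h]
  obtain ⟨c, rfl⟩ := (mem_diagonal hc).1 hd
  rw [← map_pow, ← map_one (torus D T F)] at hd1
  have hχ := torus_injective hc hd1
  have : hPar D F c = 1 := by
    funext i
    have h := congrArg Units.val (congrFun hχ i)
    simp only [Pi.pow_apply, Units.val_pow_eq_pow_val, Pi.one_apply, Units.val_one] at h
    refine Units.ext ((iterateFrobenius F p k).injective ?_)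
    rw [iterateFrobenius_def, h, Pi.one_apply, Units.val_one, map_one]
  rw [this, map_one, mul_one]
  exact hu

variable (hcomm : CommOne D T)
include hcomm

omit hcomm in
theorem closedPos_out (J : Set ℕ) (k : ℕ) :
    ClosedPos D T (fun r => OutRoot D J r ∧ k < r) := by
  refine ⟨fun r _ h => h.1.1, fun r s v hr hs h1 h2 hv => ⟨outRoot_comb hc hr h1.1.1 hs h2.1 hv, ?_⟩⟩
  have := (combRoot_gt hc hr hs h1.1.1 h2.1.1 hv).1
  have := h1.2
  omega

omit hcomm in
theorem closedPos_gt (k : ℕ) : ClosedPos D T (fun r => Pos D r ∧ k < r) := by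
  refine ⟨fun r _ h => h.1, fun r s v hr hs h1 h2 hv => ⟨(closedPos_pos hc).2 r s v hr hs h1.1 h2.1 hv, ?_⟩⟩
  have := (combRoot_gt hc hr hs h1.1 h2.1 hv).1
  have := h1.2
  omega

/-- an element commuting with the `x_r(1)` of a radical is unipotent -/
theorem centralizer_ones (htest : linkTest D = true) {J : Set ℕ} (hJ : ∃ i, i < D.rank ∧ i ∉ J) {g : GL D.Idx F}
    (hg : g ∈ D.group F) (hcen : ∀ r, r < D.nroots → OutRoot D J r → Commute (elX D F r 1) g) :
    g ∈ uGen D F (Pos D) := by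
  classical
  obtain ⟨j0, hj0, hj0J⟩ := hJ
  have hrec : ∀ {A : Type} [AddCommGroup A] (φ : (Fin D.rank → ℤ) →+ A),
      (∀ r, r < D.nroots → OutRoot D J r → φ (rv D T r) = 0) → ∀ i, φ (Pi.single i 1) = 0 := by
    intro A _ φ hφ i
    by_cases hi : (i : ℕ) ∈ J
    · obtain ⟨r, k, hr, hk, hrp, hkp, hrj, hkj, e⟩ :=
        exists_linked hc htest (i := i) (j := ⟨j0, hj0⟩) (fun e => hj0J (by rw [e] at hi; exact hi))
      have h1 := hφ r hr ((outRoot_iff hc hr).2 ⟨hrp, ⟨j0, hj0⟩, hj0J, hrj⟩)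
      have h2 := hφ k hk ((outRoot_iff hc hk).2 ⟨hkp, ⟨j0, hj0⟩, hj0J, hkj⟩)
      rwa [e, map_add, h1, zero_add] at h2
    · have hp := simple_lt hc i.2
      have := hφ _ hp ((outRoot_iff hc hp).2 ⟨half_le_simple hc i.2, i, hi, by simp [rv_simple hc]⟩)
      rwa [rv_simple hc] at this
  obtain ⟨L, u, d, v, hu, hd, hv, rfl⟩ := ChevField.exists_bruhat hc hcomm hg
  have hvp : v ∈ uGen D F (Pos D) := uGen_mono (fun r _ h => h.1) hv
  have hbu : u * d ∈ D.borelSubgroup F := mul_mem (pos_le_borel hc hu) (diagonal_le_borel hc hd)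
  obtain ⟨x, hx⟩ := (mem_diagonal hc).1 hd
  have hinv : (u * d)⁻¹ ∈ D.borelSubgroup F := inv_mem hbu
  obtain ⟨u', hu', d', hd', hud⟩ := (mem_borel hc).1 hinv
  obtain ⟨x', hx'⟩ := (mem_diagonal hc).1 hd'
  have hfix : ∀ m r, D.nroots - r = m → r < D.nroots → OutRoot D J r → sigs D T L r = r := by
    intro m
    induction m using Nat.strong_induction_on with
    | _ m ih =>
      intro r hm hr hR
      obtain ⟨c, -, hcx⟩ := nProd_conj_elX hc (F := F) L hr
      set k := (elX D F r 1)⁻¹ * (v * elX D F r 1 * v⁻¹)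
      have hk1 : k ∈ uGen D F (fun s => r < s) := pos_conj_lead hc hcomm hr hR.1 hvp (1 : F)
      have hk2 : k ∈ uGen D F (OutRoot D J) :=
        mul_mem (inv_mem (elX_mem_uGen hr hR 1)) (((Subgroup.mem_normalizer_iff).1
          (pos_normalizes_radical hc hcomm J hvp) _).1 (elX_mem_uGen hr hR 1))
      have hk3 : k ∈ uGen D F (fun s => OutRoot D J s ∧ r < s) := by
        refine uGen_mono (fun s _ h => ⟨h.1, h.2.2⟩) (uGen_inter hc hcomm (P := OutRoot D J)
          (Q := fun s => Pos D s ∧ r < s) ⟨fun s _ h => h.1, fun a b w ha hb h1 h2 hw =>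
            outRoot_comb hc ha h1.1 hb h2 hw⟩ (closedPos_gt hc r) hk2 ?_)
        refine uGen_mono (fun s _ hs => ⟨?_, hs⟩) hk1
        have : D.nroots / 2 ≤ r := hR.1
        show D.nroots / 2 ≤ s
        omega
      have hK : nProd D F L * k * (nProd D F L)⁻¹ ∈ uGen D F (fun s => r < s) :=
        ChevField.nProd_conj_uGen hc L (fun s hs hP => by
          rw [ih (D.nroots - s) (by omega) s rfl hs hP.1]; exact hP.2) hk3
      obtain ⟨k', hk', hlead⟩ := borel_conj_lead hc hcomm hr hR.1 hu' (hPar D F x')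
      rw [hx', ← hud] at hlead
      have e : elX D F (sigs D T L r) ((c : F) * 1) =
          elX D F r (chi (hPar D F x') (rv D T r) : F) * (k' * (nProd D F L * k * (nProd D F L)⁻¹)⁻¹) := by
        rw [← mul_assoc, ← hlead, ← hcx]
        have h := (hcen r hr hR).eq
        set X := elX D F r 1
        calc nProd D F L * X * (nProd D F L)⁻¹
            = (u * d)⁻¹ * (u * d * nProd D F L * v * X) * v⁻¹ * (nProd D F L)⁻¹ *
              (nProd D F L * (X⁻¹ * (v * X * v⁻¹)) * (nProd D F L)⁻¹)⁻¹ := by group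
          _ = (u * d)⁻¹ * (X * (u * d * nProd D F L * v)) * v⁻¹ * (nProd D F L)⁻¹ *
              (nProd D F L * (X⁻¹ * (v * X * v⁻¹)) * (nProd D F L)⁻¹)⁻¹ := by rw [← h]
          _ = _ := by simp only [k, X]; group
      exact (eq_of_lead hc hr hR.1 (sigs_lt hc L hr) (Units.ne_zero _) (by simp) (mul_mem hk' (inv_mem hK)) e).1
  have hLD : nProd D F L ∈ D.diagonalSubgroup F := by
    refine nProd_mem_of_pos hc L fun i => ?_
    let φ : (Fin D.rank → ℤ) →+ (Fin D.rank → ℤ) :=
      AddMonoidHom.mk' (fun v => refls D L v - v) fun a b => by rw [refls_add]; abel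
    have h0 := hrec φ (fun r hr hR => by
      show refls D L (rv D T r) - rv D T r = 0
      rw [← rv_sigs hc L hr, hfix _ r rfl hr hR, sub_self]) i
    have hp := simple_lt hc i.2
    have : sigs D T L (D.simple i.val) = D.simple i.val := rv_inj hc (sigs_lt hc L hp) hp (by
      rw [rv_sigs hc L hp, rv_simple hc]
      exact sub_eq_zero.1 h0)
    rw [this]
    exact half_le_simple hc i.2
  have hgB : u * d * nProd D F L * v ∈ D.borelSubgroup F :=
    mul_mem (mul_mem hbu (diagonal_le_borel hc hLD)) (pos_le_borel hc hvp)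
  obtain ⟨w, hw, e, he, hwe⟩ := (mem_borel hc).1 hgB
  obtain ⟨χ, hχ⟩ := (mem_diagonal hc).1 he
  have hchar : ∀ r, r < D.nroots → OutRoot D J r → chi (hPar D F χ) (rv D T r) = 1 := by
    intro r hr hR
    obtain ⟨k, hk, hlead⟩ := borel_conj_lead hc hcomm hr hR.1 hw (hPar D F χ)
    rw [hχ, ← hwe, ← (hcen r hr hR).eq, mul_inv_cancel_right] at hlead
    exact Units.ext (eq_of_lead hc hr hR.1 hr (Units.ne_zero _) one_ne_zero hk hlead).2.symm
  have htriv : hPar D F χ = 1 := by
    funext i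
    let φ : (Fin D.rank → ℤ) →+ Additive Fˣ :=
      AddMonoidHom.mk' (fun v => Additive.ofMul (chi (hPar D F χ) v)) fun a b => by rw [chi_add]; rfl
    have h0 : φ (Pi.single i 1) = 0 := by
      by_cases hi : (i : ℕ) ∈ J
      · obtain ⟨r, k, hr, hk, hrp, hkp, hrj, hkj, ek⟩ :=
          exists_linked hc htest (i := i) (j := ⟨j0, hj0⟩) (fun e => hj0J (by rw [e] at hi; exact hi))
        have h1 := hchar r hr ((outRoot_iff hc hr).2 ⟨hrp, ⟨j0, hj0⟩, hj0J, hrj⟩)
        have h2 := hchar k hk ((outRoot_iff hc hk).2 ⟨hkp, ⟨j0, hj0⟩, hj0J, hkj⟩)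
        rw [ek, chi_add, h1, one_mul] at h2
        exact congrArg Additive.ofMul h2
      · have hp := simple_lt hc i.2
        have h1 := hchar _ hp ((outRoot_iff hc hp).2 ⟨half_le_simple hc i.2, i, hi, by simp [rv_simple hc]⟩)
        rw [rv_simple hc] at h1
        exact congrArg Additive.ofMul h1
    have h1 : chi (hPar D F χ) (Pi.single i 1) = 1 := h0
    rwa [chi_single, zpow_one] at h1
  rw [hwe, ← hχ, htriv, map_one, mul_one]
  exact hw

variable {σ : F →+* F} {H : Subgroup (GL D.Idx F)} (hH : Over D σ H)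
  (hB : ∀ g ∈ D.borelSubgroup F, g ∈ H → glMap D σ g = g)
include hH hB

/-- the elements of `H` in a proper parabolic subgroup are fixed -/
theorem parabolic_fixed (htest : linkTest D = true) {J : Set ℕ} (hJ : ∃ i, i < D.rank ∧ i ∉ J) {g : GL D.Idx F}
    (hgP : g ∈ D.parabolicSubgroup F J) (hgH : g ∈ H) : glMap D σ g = g := by
  have hgG := hH.le hgH
  have hcen : ∀ r, r < D.nroots → OutRoot D J r → Commute (elX D F r 1) (g⁻¹ * glMap D σ g) := by
    intro r hr hR
    refine commute_diff hc hH hr (hB _ ?_ (mul_mem (mul_mem hgH (hH.root r hr 1 (map_one σ))) (inv_mem hgH)))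
    exact pos_le_borel hc (uGen_mono (fun s _ h => h.1)
      (((Subgroup.mem_normalizer_iff).1 (parabolic_normalizes_radical hc hcomm J hgP) _).1 (elX_mem_uGen hr hR 1)))
  have hz := centralizer_ones hc hcomm htest hJ (mul_mem (inv_mem hgG) (glMap_group hc σ hgG)) hcen
  obtain ⟨L, u, d, v, hu, hd, hv, e⟩ := ChevField.exists_bruhat hc hcomm (inv_mem hgG)
  have hσ : glMap D σ u * glMap D σ d * nProd D F L * glMap D σ v =
      (g⁻¹ * glMap D σ g)⁻¹ * u * d * nProd D F L * v := by
    rw [← glMap_nProd hc σ L, ← map_mul, ← map_mul, ← map_mul, ← e, map_inv, glMap_nProd hc σ L,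
      show (g⁻¹ * glMap D σ g)⁻¹ * u * d * nProd D F L * v =
        (g⁻¹ * glMap D σ g)⁻¹ * (u * d * nProd D F L * v) by group, ← e]
    group
  obtain ⟨-, hσd, hσv⟩ := ChevField.bruhat_unique hc hcomm (glMap_uGen hc σ hu) (mul_mem (inv_mem hz) hu)
    (glMap_diagonal hc σ hd) hd (glMap_uGen hc σ hv) hv hσ
  have hvH : v ∈ H := fixed_pos_mem hc hcomm hH (uGen_mono (fun r _ h => h.1) hv) hσv
  have hudH : u * d ∈ H := by
    have := mul_mem (mul_mem (inv_mem hgH) (inv_mem hvH)) (inv_mem (nProd_mem hc hH L))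
    rwa [e, mul_inv_cancel_right, mul_inv_cancel_right] at this
  have hud := hB _ (mul_mem (pos_le_borel hc hu) (diagonal_le_borel hc hd)) hudH
  rw [← inv_inv g, e, map_inv, map_mul, map_mul, hud, glMap_nProd hc, hσv]

/-- fixed elements of `p`-power order are conjugate into `U` by fixed elements -/
theorem exists_conj_pos (p : ℕ) [Fact p.Prime] [CharP F p] {k : GL D.Idx F} (hkH : k ∈ H)
    (hσk : glMap D σ k = k) {n : ℕ} (hk : k ^ p ^ n = 1) :
    ∃ m ∈ H, glMap D σ m = m ∧ m * k * m⁻¹ ∈ uGen D F (Pos D) := by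
  let M : Subgroup (GL D.Idx F) := H ⊓ (glMap D σ).eqLocus (MonoidHom.id _)
  haveI := hH.fin
  haveI : Finite M := Finite.of_injective (Subgroup.inclusion inf_le_left) (Subgroup.inclusion_injective _)
  let P : Subgroup M := (uGen D F (Pos D)).subgroupOf M
  have hP : IsPGroup p P := by
    intro x
    obtain ⟨j, hj⟩ := isPGroup_pos hc (F := F) p ⟨((x : M) : GL D.Idx F), x.2⟩
    refine ⟨j, Subtype.ext (Subtype.ext ?_)⟩
    simpa using congrArg Subtype.val hj
  obtain ⟨Q, hQ⟩ := hP.exists_le_sylow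
  have hPQ : P = Q := by
    haveI := Q.isPGroup'.isNilpotent
    suffices P.subgroupOf (Q : Subgroup M) = ⊤ from le_antisymm hQ (Subgroup.subgroupOf_eq_top.1 this)
    refine normalizerCondition_iff_only_full_group_self_normalizing.mp Group.normalizerCondition_of_isNilpotent _
      (le_antisymm (fun g hg => ?_) Subgroup.le_normalizer)
    obtain ⟨hgH, hσg⟩ := (g : M).2
    change glMap D σ ((g : M) : GL D.Idx F) = ((g : M) : GL D.Idx F) at hσg
    set x : GL D.Idx F := ((g : M) : GL D.Idx F)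
    obtain ⟨L, u, d, v, hu, hd, hv, e⟩ := ChevField.exists_bruhat hc hcomm (hH.le hgH)
    have hbu : u * d ∈ D.borelSubgroup F := mul_mem (pos_le_borel hc hu) (diagonal_le_borel hc hd)
    have hvp : v ∈ uGen D F (Pos D) := uGen_mono (fun r _ h => h.1) hv
    have hxB : x ∈ D.borelSubgroup F := by
      rw [e]
      refine mul_mem (mul_mem hbu (diagonal_le_borel hc (nProd_mem_of_pos hc L fun i => ?_))) (pos_le_borel hc hvp)
      have ha := simple_lt hc i.2
      have hap : Pos D (D.simple i.val) := half_le_simple hc i.2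
      set X := elX D F (D.simple i.val) 1
      have hXM : X ∈ M := ⟨hH.root _ ha 1 (map_one σ), (elX_fixed hc σ ha).2 (map_one σ)⟩
      have hXQ : (⟨X, hXM⟩ : M) ∈ (Q : Subgroup M) := hQ (by
        simp only [P, Subgroup.mem_subgroupOf]
        exact elX_mem_uGen ha (P := Pos D) hap 1)
      have hXP : (⟨⟨X, hXM⟩, hXQ⟩ : (Q : Subgroup M)) ∈ P.subgroupOf (Q : Subgroup M) := by
        simp only [P, Subgroup.mem_subgroupOf]
        exact elX_mem_uGen ha (P := Pos D) hap 1
      have h1 := (Subgroup.mem_normalizer_iff.1 hg _).1 hXP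
      simp only [P, Subgroup.mem_subgroupOf, Subgroup.coe_mul, Subgroup.coe_inv] at h1
      change x * X * x⁻¹ ∈ uGen D F (Pos D) at h1
      rw [e] at h1
      have h2 : nProd D F L * (v * X * v⁻¹) * (nProd D F L)⁻¹ ∈ D.borelSubgroup F := by
        have := mul_mem (mul_mem (inv_mem hbu) (pos_le_borel hc h1)) hbu
        convert this using 1
        group
      have h3 := mem_keep hc hcomm L (mul_mem (mul_mem hvp (elX_mem_uGen ha hap 1)) (inv_mem hvp)) h2
      refine (lead_mem_closed hc hcomm ha hap (closedPos_keep hc L) (pos_conj_lead hc hcomm ha hap hvp (1 : F)) ?_).2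
      rwa [mul_inv_cancel_left]
    obtain ⟨j, hj⟩ := Q.isPGroup' g
    have hj' : x ^ p ^ j = 1 := by
      have := congrArg (fun y : (Q : Subgroup M) => ((y : M) : GL D.Idx F)) hj
      simpa using this
    exact borel_pow_mem hc p hxB hj'
  have hkp : IsPGroup p (Subgroup.zpowers (⟨k, hkH, hσk⟩ : M)) := by
    rintro ⟨y, hy⟩
    obtain ⟨i, rfl⟩ := Subgroup.mem_zpowers_iff.1 hy
    refine ⟨n, Subtype.ext ?_⟩
    rw [SubgroupClass.coe_pow]
    show ((⟨k, hkH, hσk⟩ : M) ^ i) ^ p ^ n = 1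
    rw [← zpow_natCast, ← zpow_mul, mul_comm, zpow_mul, zpow_natCast,
      show (⟨k, hkH, hσk⟩ : M) ^ p ^ n = 1 from Subtype.ext (by rw [SubgroupClass.coe_pow]; exact hk), one_zpow]
  obtain ⟨Q', hQ'⟩ := hkp.exists_le_sylow
  obtain ⟨m, hm⟩ := MulAction.exists_smul_eq M Q' Q
  refine ⟨(m : GL D.Idx F), m.2.1, m.2.2, ?_⟩
  have h1 : m * ⟨k, hkH, hσk⟩ * m⁻¹ ∈ (Q : Subgroup M) := by
    rw [← hm, Sylow.coe_subgroup_smul, Subgroup.mem_pointwise_smul_iff_inv_smul_mem]
    have := hQ' (Subgroup.mem_zpowers _)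
    simpa [MulAut.smul_def, mul_assoc] using this
  rw [← hPQ] at h1
  exact h1

omit hH hB in
/-- a minimising pair exists for a subgroup of `U` -/
theorem exists_min {R : Subgroup (GL D.Idx F)} (hR : R ≤ uGen D F (Pos D)) :
    ∃ g x, Feasible D T R g x ∧ ∀ g' x', Feasible D T R g' x' → quadR D T x ≤ quadR D T x' := by
  classical
  have h0 : Feasible D T R 1 (fun _ => 1) := by
    refine ⟨one_mem _, fun _ => zero_le_one, fun k hk => ?_⟩
    rw [inv_one, one_mul, mul_one]
    refine uGen_mono (fun r hr hp => ?_) (hR hk)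
    refine ⟨hp, ?_⟩
    have hnz : ∃ j, rv D T r j ≠ 0 := by
      by_contra hh; push Not at hh; exact rv_ne_zero hc hr (funext hh)
    obtain ⟨j, hj⟩ := hnz
    have hj1 : (1 : ℝ) ≤ (rv D T r j : ℝ) := by
      exact_mod_cast (lt_of_le_of_ne (rv_nonneg hc hr hp j) (Ne.symm hj))
    refine le_trans (by simpa using hj1) (Finset.single_le_sum (f := fun i => (rv D T r i : ℝ) * (1 : ℝ))
      (fun i _ => mul_nonneg (by exact_mod_cast rv_nonneg hc hr hp i) zero_le_one) (Finset.mem_univ j))
  let x₀ : Fin D.rank → ℝ := fun _ => 1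
  let good : Finset (Finset ℕ) := (Finset.range D.nroots).powerset.filter fun S =>
    ∃ g ∈ D.group F, (∀ r ∈ S, D.nroots / 2 ≤ r) ∧ ∀ k ∈ R, g⁻¹ * k * g ∈ uGen D F (fun r => r ∈ S)
  let C : Set (Fin D.rank → ℝ) :=
    {x | quadR D T x ≤ quadR D T x₀} ∩ ⋃ S ∈ good, {x | (∀ i, 0 ≤ x i) ∧ ∀ r ∈ S, 1 ≤ valR D T x r}
  have hmem : ∀ g x, Feasible D T R g x → quadR D T x ≤ quadR D T x₀ → x ∈ C := by
    rintro g x ⟨hg, hx, hk⟩ hle
    refine ⟨hle, Set.mem_biUnion (x := (Finset.range D.nroots).filter fun r => HighRoot D T x r) ?_ ⟨hx, ?_⟩⟩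
    · refine Finset.mem_filter.2 ⟨Finset.mem_powerset.2 (Finset.filter_subset _ _), g, hg,
        fun r hr => (Finset.mem_filter.1 hr).2.1, fun k hkR => uGen_mono (fun r hr h => ?_) (hk k hkR)⟩
      exact Finset.mem_filter.2 ⟨Finset.mem_range.2 hr, h⟩
    · exact fun r hr => (Finset.mem_filter.1 hr).2.2
  have hcont : ∀ r, Continuous fun x : Fin D.rank → ℝ => valR D T x r := fun r => by
    unfold valR; fun_prop
  have hQc : Continuous fun x : Fin D.rank → ℝ => quadR D T x := by
    unfold quadR; exact continuous_finset_sum _ fun r _ => (hcont r).pow 2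
  have hclosed : IsClosed C := by
    refine (isClosed_le hQc continuous_const).inter (Set.Finite.isClosed_biUnion good.finite_toSet fun S _ => ?_)
    simp only [Set.setOf_and, Set.setOf_forall]
    exact (isClosed_iInter fun i => isClosed_le continuous_const (continuous_apply i)).inter
      (isClosed_iInter fun r => isClosed_iInter fun _ => isClosed_le continuous_const (hcont r))
  have hsub : C ⊆ Set.Icc (fun _ => -(quadR D T x₀ + 1)) (fun _ => quadR D T x₀ + 1) := by
    rintro x ⟨hle, -⟩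
    have hb : ∀ i, |x i| ≤ quadR D T x₀ + 1 := fun i => by
      have h1 := le_trans (sq_le_quadR hc x i) hle
      nlinarith [sq_nonneg (|x i| - 1), sq_abs (x i), abs_nonneg (x i)]
    exact ⟨fun i => (abs_le.1 (hb i)).1, fun i => (abs_le.1 (hb i)).2⟩
  obtain ⟨x, hxC, hxmin⟩ := (isCompact_Icc.of_isClosed_subset hclosed hsub).exists_isMinOn
    ⟨x₀, hmem _ _ h0 le_rfl⟩ hQc.continuousOn
  obtain ⟨hle, hxU⟩ := hxC
  simp only [Set.mem_iUnion, Set.mem_setOf_eq] at hxU
  obtain ⟨S, hS, hx0, hxS⟩ := hxU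
  obtain ⟨-, g, hg, hSp, hSk⟩ := Finset.mem_filter.1 hS
  refine ⟨g, x, ⟨hg, hx0, fun k hk => uGen_mono (fun r _ hr => ?_) (hSk k hk)⟩, fun g' x' h' => ?_⟩
  · exact ⟨hSp r hr, hxS r hr⟩
  · by_cases hq : quadR D T x' ≤ quadR D T x₀
    · exact hxmin (hmem g' x' h' hq)
    · exact le_trans hle (le_of_lt (not_le.1 hq))

/-- the centraliser in `H` of a non-trivial fixed element of `p`-power order consists of fixed elements -/
theorem centralizer_fixed (htest : linkTest D = true) (p : ℕ) [Fact p.Prime] [CharP F p] {k : GL D.Idx F}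
    (hkH : k ∈ H) (hσk : glMap D σ k = k) {n : ℕ} (hk : k ^ p ^ n = 1) (hk1 : k ≠ 1) {c : GL D.Idx F}
    (hcH : c ∈ H) (hck : c * k = k * c) : glMap D σ c = c := by
  classical
  obtain ⟨m₀, hm₀H, hσm₀, hU⟩ := exists_conj_pos hc hcomm hH hB p hkH hσk hk
  suffices key : ∀ k₁ ∈ uGen D F (Pos D), glMap D σ k₁ = k₁ → k₁ ≠ 1 → ∀ c ∈ H, c * k₁ = k₁ * c →
      glMap D σ c = c by
    have h := key _ hU (by rw [map_mul, map_mul, map_inv, hσm₀, hσk]) (fun e => hk1 (conj_eq_one_iff.1 e))
      (m₀ * c * m₀⁻¹) (mul_mem (mul_mem hm₀H hcH) (inv_mem hm₀H)) (by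
        calc m₀ * c * m₀⁻¹ * (m₀ * k * m₀⁻¹) = m₀ * (c * k) * m₀⁻¹ := by group
          _ = _ := by rw [hck]; group)
    rw [map_mul, map_mul, map_inv, hσm₀] at h
    exact mul_left_cancel (mul_right_cancel h)
  clear hcH hck c
  intro k hkU hσk hk1 c hcH hck
  set R := Subgroup.zpowers k
  obtain ⟨g, x, hgx, hmin⟩ := exists_min hc hcomm (Subgroup.zpowers_le.2 hkU)
  obtain ⟨hgG, hx, hgR⟩ := hgx
  set J : Set ℕ := {j | ∃ hj : j < D.rank, x ⟨j, hj⟩ = 0}
  have hout : ∀ r, r < D.nroots → HighRoot D T x r → OutRoot D J r := by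
    intro r hr h
    refine (outRoot_iff hc hr).2 ⟨h.1, ?_⟩
    by_contra hh
    push Not at hh
    have h0 : valR D T x r = 0 := Finset.sum_eq_zero fun j _ => by
      by_cases hj : (j : ℕ) ∈ J
      · obtain ⟨_, e⟩ := hj
        rw [show x j = 0 from e, mul_zero]
      · rw [hh j hj, Int.cast_zero, zero_mul]
    linarith [h.2]
  have hJ : ∃ i, i < D.rank ∧ i ∉ J := by
    by_contra hall
    push Not at hall
    refine hk1 ?_
    have hbot : uGen D F (HighRoot D T x) = ⊥ := by
      rw [eq_bot_iff, uGen_le_iff]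
      intro r hr h
      obtain ⟨-, j, hj, -⟩ := (outRoot_iff hc hr).1 (hout r hr h)
      exact absurd (hall j j.2) hj
    have h1 := hgR k (Subgroup.mem_zpowers k)
    rw [hbot, Subgroup.mem_bot] at h1
    calc k = g * (g⁻¹ * k * g) * g⁻¹ := by group
      _ = 1 := by rw [h1]; group
  have hσR : ∀ y ∈ R, glMap D σ y = y := fun y hy => by
    obtain ⟨i, rfl⟩ := Subgroup.mem_zpowers_iff.1 hy
    rw [map_zpow, hσk]
  have hσfeas : Feasible D T R (glMap D σ g) x := ⟨glMap_group hc σ hgG, hx, fun y hy => by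
    have := glMap_uGen hc σ (hgR y hy)
    rwa [map_mul, map_mul, map_inv, hσR y hy] at this⟩
  have hcfeas : Feasible D T R (c * g) x := ⟨mul_mem (hH.le hcH) hgG, hx, fun y hy => by
    obtain ⟨i, rfl⟩ := Subgroup.mem_zpowers_iff.1 hy
    have e : c⁻¹ * k ^ i * c = k ^ i := by
      rw [mul_assoc, ← ((show Commute c k from hck).zpow_right i).eq, inv_mul_cancel_left]
    have := hgR _ hy
    convert this using 1
    calc (c * g)⁻¹ * k ^ i * (c * g) = g⁻¹ * (c⁻¹ * k ^ i * c) * g := by group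
      _ = _ := by rw [e]⟩
  have hσP := minimiser_unique hc hcomm ⟨hgG, hx, hgR⟩ hσfeas hmin
  have hcP := minimiser_unique hc hcomm ⟨hgG, hx, hgR⟩ hcfeas hmin
  -- a fixed representative of the coset
  obtain ⟨L, u, d, v, hu, hd, hv, e⟩ := ChevField.exists_bruhat hc hcomm hgG
  have hvp : v ∈ D.borelSubgroup F := pos_le_borel hc (uGen_mono (fun r _ h => h.1) hv)
  obtain ⟨a, ha, b, hb, hab⟩ := uGen_split hc hcomm (closedPos_pos hc)
    (Q := fun s => D.nroots / 2 ≤ s ∧ OutRoot D J (D.neg (sigs D T L.reverse s)))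
    (R := fun s => D.nroots / 2 ≤ s ∧ ParRoot D J (sigs D T L.reverse s))
    (fun s hs hp => by
      by_cases h : ParRoot D J (sigs D T L.reverse s)
      · exact Or.inr ⟨hp, h⟩
      · refine Or.inl ⟨hp, ?_⟩
        simp only [ParRoot, not_or] at h
        have hw := sigs_lt hc L.reverse hs (T := T)
        refine ⟨?_, fun hJ' => h.2 ?_⟩
        · have := nroots_eq_two_mul hc
          have := neg_eq hc hw
          have := h.1
          omega
        · have := inRootSub_neg hc (neg_lt hc hw) hJ'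
          rwa [neg_neg_root hc hw] at this) hu
  set n := nProd D F L
  obtain ⟨d₁, hd₁, en⟩ := nProd_inv hc (F := F) L
  have hP : ∀ {y : GL D.Idx F}, y ∈ D.diagonalSubgroup F → y ∈ D.parabolicSubgroup F J := fun hy =>
    Subgroup.mem_sup_left (diagonal_le_borel hc hy)
  have hbP : n⁻¹ * b * n ∈ D.parabolicSubgroup F J := by
    have h := ChevField.nProd_conj_uGen hc L.reverse (Q := ParRoot D J) (fun r _ h => h.2) hb
    have h' : uGen D F (ParRoot D J) ≤ D.parabolicSubgroup F J := by rw [parabolic_gen hc]; exact le_sup_right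
    have := mul_mem (mul_mem (hP hd₁) (h' h)) (inv_mem (hP hd₁))
    convert this using 1
    conv_lhs => rw [en, show n = (d₁ * nProd D F L.reverse)⁻¹ by rw [← en, inv_inv]]
    group
  set m := a * n
  have hpP : m⁻¹ * g ∈ D.parabolicSubgroup F J := by
    have h := mul_mem (mul_mem hbP (hP (show n⁻¹ * d * n ∈ D.diagonalSubgroup F by
      simpa using monomial_conj_diagonal hc (inv_mem (nProd_mem_monomial hc L)) hd)))
      (Subgroup.mem_sup_left hvp : v ∈ D.parabolicSubgroup F J)
    convert h using 1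
    rw [e, hab]
    simp only [m, n]
    group
  have hσa : glMap D σ a = a := by
    have h1 : n⁻¹ * (a⁻¹ * glMap D σ a) * n ∈ uGen D F (fun r => OutRoot D J (D.neg r)) := by
      have h := ChevField.nProd_conj_uGen hc L.reverse (Q := fun r => OutRoot D J (D.neg r)) (fun r _ h => h.2)
        (mul_mem (inv_mem ha) (glMap_uGen hc σ ha))
      have := diag_conj_mem hc _ hd₁ h
      convert this using 1
      conv_lhs => rw [en, show n = (d₁ * nProd D F L.reverse)⁻¹ by rw [← en, inv_inv]]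
      group
    have h2 : n⁻¹ * (a⁻¹ * glMap D σ a) * n ∈ D.parabolicSubgroup F J := by
      have hg' : glMap D σ (m⁻¹ * g) ∈ D.parabolicSubgroup F J := by
        rw [parabolic_gen hc] at hpP ⊢
        have hle : D.diagonalSubgroup F ⊔ uGen D F (ParRoot D J) ≤
            (D.diagonalSubgroup F ⊔ uGen D F (ParRoot D J)).comap (glMap D σ) :=
          sup_le (fun y hy => Subgroup.mem_sup_left (glMap_diagonal hc σ hy))
            (fun y hy => Subgroup.mem_sup_right (glMap_uGen hc σ hy))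
        exact hle hpP
      have := mul_mem (mul_mem hpP hσP) (inv_mem hg')
      convert this using 1
      rw [map_mul, map_inv, map_mul, glMap_nProd hc σ L]
      simp only [m, n]
      group
    exact (inv_mul_eq_one.1 (conj_eq_one_iff.1 (show n⁻¹ * (a⁻¹ * glMap D σ a) * (n⁻¹)⁻¹ = 1 by
      rw [inv_inv]; exact parabolic_inf_opp hc hcomm J h2 h1))).symm
  have hσm : glMap D σ m = m := by rw [map_mul, hσa, glMap_nProd hc σ L]
  have hmH : m ∈ H := mul_mem (fixed_pos_mem hc hcomm hH (uGen_mono (fun r _ h => h.1) ha) hσa) (nProd_mem hc hH L)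
  have hcm := parabolic_fixed hc hcomm hH hB htest hJ (g := m⁻¹ * c * m) (by
      have := mul_mem (mul_mem hpP hcP) (inv_mem hpP)
      convert this using 1
      group) (mul_mem (mul_mem (inv_mem hmH) hcH) hmH)
  rw [map_mul, map_mul, map_inv, hσm] at hcm
  exact mul_left_cancel (mul_right_cancel hcm)

end

end CfsgLib.SubfieldOver
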