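import Cfsg.Agent.Lib.SteinbergTwo.Main
import Mathlib.GroupTheory.Transfer
import Mathlib.GroupTheory.PGroup
import Mathlib.GroupTheory.Perm.Cycle.Type
import Mathlib.LinearAlgebra.Matrix.Adjugate
import Mathlib.LinearAlgebra.Matrix.Trace
import Mathlib.Tactic.LinearCombination
import Mathlib.Tactic.NoncommRing
import Mathlib.Algebra.CharP.Lemmas
import Mathlib.LinearAlgebra.Matrix.CharP

/-!
# Finite subgroups of SL(2) containing an upper and a lower elementary matrix

In odd characteristic such a subgroup contains `-1`: otherwise it has odd order, every Sylow subgroup for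
a prime other than the characteristic is self-centralising, and transfer makes it a `p`-group.
-/

set_option autoImplicit false
set_option linter.style.haveILetI false

namespace CfsgLib.SubfieldOver

open CfsgLib.SteinbergTwo
open scoped MatrixGroups

variable {F : Type*} [Field F]

/-- a scalar matrix -/
def IsScal (z : SL(2, F)) : Prop := z.1 0 1 = 0 ∧ z.1 1 0 = 0 ∧ z.1 0 0 = z.1 1 1

theorem sl2_det (z : SL(2, F)) : z.1 0 0 * z.1 1 1 - z.1 0 1 * z.1 1 0 = 1 := by
  rw [← Matrix.det_fin_two]; exact z.2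

theorem scal_cases {z : SL(2, F)} (h : IsScal z) : z = 1 ∨ z = -1 := by
  obtain ⟨h1, h2, h3⟩ := h
  have hd := sl2_det z
  rw [h1, zero_mul, sub_zero, ← h3] at hd
  rcases mul_self_eq_one_iff.1 hd with h0 | h0
  · left; ext i j; fin_cases i <;> fin_cases j <;> simp [h1, h2, h0, ← h3]
  · right; ext i j; fin_cases i <;> fin_cases j <;> simp [h1, h2, h0, ← h3]

/-- the commutant of a non-scalar matrix consists of its linear expressions -/
theorem span_of_commute {z m : SL(2, F)} (hz : ¬ IsScal z) (h : m * z = z * m) :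
    ∃ a b : F, m.1 = a • (1 : Matrix (Fin 2) (Fin 2) F) + b • z.1 := by
  have e : ∀ i j, (m.1 * z.1) i j = (z.1 * m.1) i j := fun i j => by
    have := congrArg (fun w : SL(2, F) => w.1 i j) h
    simpa using this
  have e00 := e 0 0
  have e01 := e 0 1
  have e10 := e 1 0
  simp only [Matrix.mul_apply, Fin.sum_univ_two] at e00 e01 e10
  by_cases h01 : z.1 0 1 = 0
  · by_cases h10 : z.1 1 0 = 0
    · have hd : z.1 0 0 - z.1 1 1 ≠ 0 := sub_ne_zero.2 fun he => hz ⟨h01, h10, he⟩
      have m01 : m.1 0 1 = 0 := by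
        have : m.1 0 1 * (z.1 0 0 - z.1 1 1) = 0 := by rw [h01] at e01; linear_combination -e01
        exact (mul_eq_zero.1 this).resolve_right hd
      have m10 : m.1 1 0 = 0 := by
        have : m.1 1 0 * (z.1 0 0 - z.1 1 1) = 0 := by rw [h10] at e10; linear_combination e10
        exact (mul_eq_zero.1 this).resolve_right hd
      refine ⟨m.1 0 0 - (m.1 0 0 - m.1 1 1) / (z.1 0 0 - z.1 1 1) * z.1 0 0,
        (m.1 0 0 - m.1 1 1) / (z.1 0 0 - z.1 1 1), ?_⟩
      ext i j
      fin_cases i <;> fin_cases j <;> simp [h01, h10, m01, m10]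
      field_simp
      ring
    · refine ⟨m.1 0 0 - m.1 1 0 / z.1 1 0 * z.1 0 0, m.1 1 0 / z.1 1 0, ?_⟩
      have m01 : m.1 0 1 = 0 := by
        have : m.1 0 1 * z.1 1 0 = 0 := by rw [h01] at e00; linear_combination e00
        exact (mul_eq_zero.1 this).resolve_right h10
      ext i j
      fin_cases i <;> fin_cases j <;> simp [h01, m01, h10]
      field_simp
      linear_combination e10
  · refine ⟨m.1 0 0 - m.1 0 1 / z.1 0 1 * z.1 0 0, m.1 0 1 / z.1 0 1, ?_⟩
    ext i j
    fin_cases i <;> fin_cases j <;> simp [h01]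
    · field_simp; linear_combination -e00
    · field_simp; linear_combination -e01

theorem commute_of_commute {z m m' : SL(2, F)} (hz : ¬ IsScal z) (h : m * z = z * m) (h' : m' * z = z * m') :
    m * m' = m' * m := by
  obtain ⟨a, b, e⟩ := span_of_commute hz h
  obtain ⟨a', b', e'⟩ := span_of_commute hz h'
  apply Subtype.ext
  show m.1 * m'.1 = m'.1 * m.1
  rw [e, e']
  simp only [Matrix.add_mul, Matrix.mul_add, Matrix.smul_mul, Matrix.mul_smul, Matrix.one_mul, Matrix.mul_one]
  module

theorem pow_two_eq_one {z : SL(2, F)} (h2 : (2 : F) ≠ 0) (h : z ^ 2 = 1) : z = 1 ∨ z = -1 := by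
  rw [pow_two, ← eq_inv_iff_mul_eq_one] at h
  apply scal_cases
  have hi : z.1 = Matrix.adjugate z.1 := by
    conv_lhs => rw [h]
    exact Matrix.SpecialLinearGroup.coe_inv z
  rw [Matrix.adjugate_fin_two] at hi
  have e : ∀ i j, z.1 i j = (!![z.1 1 1, -z.1 0 1; -z.1 1 0, z.1 0 0]) i j := fun i j => by rw [← hi]
  have e1 := e 0 1
  have e2 := e 1 0
  have e3 := e 0 0
  simp at e1 e2 e3
  refine ⟨?_, ?_, e3⟩
  · exact (mul_eq_zero.1 (show (2 : F) * z.1 0 1 = 0 by linear_combination e1)).resolve_left h2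
  · exact (mul_eq_zero.1 (show (2 : F) * z.1 1 0 = 0 by linear_combination e2)).resolve_left h2

/-- a conjugate of `z` that commutes with it is `z` or `z⁻¹`, unless a power of `z` is scalar -/
theorem conj_cases {p : ℕ} [Fact p.Prime] [CharP F p] (h2 : (2 : F) ≠ 0) {z n : SL(2, F)} (hz : ¬ IsScal z)
    (hzp : ¬ IsScal (z ^ p)) (h : (n * z * n⁻¹) * z = z * (n * z * n⁻¹)) :
    n * z * n⁻¹ = z ∨ n * z * n⁻¹ = z⁻¹ := by
  obtain ⟨a, b, e⟩ := span_of_commute hz h
  set z' := n * z * n⁻¹ with hz'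
  have ht : z'.1 0 0 + z'.1 1 1 = z.1 0 0 + z.1 1 1 := by
    rw [← Matrix.trace_fin_two, ← Matrix.trace_fin_two]
    have : z'.1 = n.1 * z.1 * (n⁻¹ : SL(2, F)).1 := rfl
    rw [this, Matrix.trace_mul_comm, ← Matrix.mul_assoc,
      show (n⁻¹ : SL(2, F)).1 * n.1 = ((n⁻¹ * n : SL(2, F))).1 from rfl, inv_mul_cancel]
    simp
  have hd := sl2_det z'
  have hd0 := sl2_det z
  set t := z.1 0 0 + z.1 1 1 with htdef
  rw [e] at ht hd
  simp at ht hd
  have h1 : 2 * a + b * t = t := by rw [htdef] at *; linear_combination ht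
  have h3 : a ^ 2 + a * b * t + b ^ 2 = 1 := by rw [htdef]; linear_combination hd - b ^ 2 * hd0
  have key : (t ^ 2 - 4) * (1 - b ^ 2) = 0 := by linear_combination 4 * h3 - (2 * a + b * t + t) * h1
  rcases mul_eq_zero.1 key with k | k
  · exfalso
    apply hzp
    set N : Matrix (Fin 2) (Fin 2) F := z.1 - (t / 2) • (1 : Matrix (Fin 2) (Fin 2) F) with hN
    have hN2 : N ^ 2 = 0 := by
      rw [pow_two]
      ext i j
      fin_cases i <;> fin_cases j <;>
        simp [hN, Matrix.mul_apply, Fin.sum_univ_two] <;> field_simp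
      · linear_combination k - 4 * hd0 + 0 * h1
      · ring
      · ring
      · linear_combination k - 4 * hd0 + 0 * h1
    have hp2 : 2 ≤ p := (Fact.out : p.Prime).two_le
    have hpow : (z ^ p).1 = (t / 2) ^ p • (1 : Matrix (Fin 2) (Fin 2) F) := by
      rw [Matrix.SpecialLinearGroup.coe_pow,
        show z.1 = (t / 2) • (1 : Matrix (Fin 2) (Fin 2) F) + N by rw [hN]; abel,
        add_pow_char_of_commute p ((Commute.one_left N).smul_left (t / 2)), smul_pow, one_pow,
        show N ^ p = N ^ 2 * N ^ (p - 2) by rw [← pow_add]; congr 1; omega, hN2, zero_mul, add_zero]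
    refine ⟨?_, ?_, ?_⟩ <;> rw [hpow] <;> simp
  · rcases mul_eq_zero.1 (show (b - 1) * (b + 1) = 0 by linear_combination -k) with kb | kb
    · left
      have hb : b = 1 := sub_eq_zero.1 kb
      have ha : a = 0 := by
        have : 2 * a = 0 := by rw [hb] at h1; linear_combination h1
        exact (mul_eq_zero.1 this).resolve_left h2
      apply Subtype.ext
      rw [e, ha, hb]; simp
    · right
      have hb : b = -1 := eq_neg_of_add_eq_zero_left kb
      have ha : a = t := by
        have : 2 * (a - t) = 0 := by rw [hb] at h1; linear_combination h1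
        exact sub_eq_zero.1 ((mul_eq_zero.1 this).resolve_left h2)
      apply Subtype.ext
      rw [e, ha, hb, Matrix.SpecialLinearGroup.coe_inv, Matrix.adjugate_fin_two, htdef]
      ext i j
      fin_cases i <;> fin_cases j <;> simp

/-- the main lemma -/
theorem neg_one_mem {p : ℕ} [Fact p.Prime] [CharP F p] (hp : p ≠ 2) (W : Subgroup SL(2, F)) [Finite W] {c : F}
    (hc : c ≠ 0) (hu : img F (true, 1) ∈ W) (hl : img F (false, c) ∈ W) : (-1 : SL(2, F)) ∈ W := by
  have h2 : (2 : F) ≠ 0 := Ring.two_ne_zero (by rw [ringChar.eq F p]; exact hp)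
  by_contra hneg
  have hscal : ∀ w : W, IsScal (w : SL(2, F)) → w = 1 := fun w hw => by
    rcases scal_cases hw with e | e
    · exact Subtype.ext e
    · exact absurd (e ▸ w.2) hneg
  have hodd : ¬ 2 ∣ Nat.card W := fun hd => by
    have := Fact.mk Nat.prime_two
    obtain ⟨w, hw⟩ := exists_prime_orderOf_dvd_card' 2 hd
    have e : (w : SL(2, F)) ^ 2 = 1 := by
      have h : w ^ 2 = 1 := orderOf_dvd_iff_pow_eq_one.1 hw.dvd
      rw [← SubgroupClass.coe_pow, h]; rfl
    have hw1 : w ≠ 1 := fun e => by rw [e, orderOf_one] at hw; omega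
    rcases pow_two_eq_one h2 e with e | e
    · exact hw1 (Subtype.ext e)
    · exact hneg (e ▸ w.2)
  -- Sylow subgroups away from the characteristic are central in their normalisers
  have hN : ∀ (ℓ : ℕ) [Fact ℓ.Prime], ℓ ≠ p → ∀ P : Sylow ℓ W,
      Subgroup.normalizer ((P : Subgroup W) : Set W) ≤ Subgroup.centralizer ((P : Subgroup W) : Set W) := by
    intro ℓ _ hℓ P n hn
    rw [Subgroup.mem_centralizer_iff]
    intro g hg
    by_cases hP : Nontrivial (P : Subgroup W)
    swap
    · have := not_nontrivial_iff_subsingleton.1 hP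
      have : g = 1 := congrArg Subtype.val (Subsingleton.elim (⟨g, hg⟩ : (P : Subgroup W)) 1)
      rw [this, one_mul, mul_one]
    haveI := hP
    have := P.isPGroup'.center_nontrivial
    obtain ⟨⟨⟨z, hzP⟩, hzc⟩, hz1⟩ := exists_ne (1 : Subgroup.center (P : Subgroup W))
    have hz1' : z ≠ 1 := fun e => hz1 (Subtype.ext (Subtype.ext e))
    have hcz : ∀ w ∈ (P : Subgroup W), (w : SL(2, F)) * z = z * w := fun w hw =>
      congrArg (fun x : (P : Subgroup W) => ((x : W) : SL(2, F))) (Subgroup.mem_center_iff.1 hzc ⟨w, hw⟩)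
    have hzs : ¬ IsScal (z : SL(2, F)) := fun h => hz1' (hscal z h)
    have hzp : ¬ IsScal ((z : SL(2, F)) ^ p) := fun h => by
      have h1 : z ^ p = 1 := hscal (z ^ p) (by rw [SubgroupClass.coe_pow]; exact h)
      obtain ⟨k, hk⟩ := P.isPGroup' ⟨z, hzP⟩
      have hk' : z ^ ℓ ^ k = 1 := congrArg Subtype.val hk
      have hcop : Nat.Coprime p (ℓ ^ k) :=
        Nat.Coprime.pow_right _ ((Nat.coprime_primes Fact.out Fact.out).2 (Ne.symm hℓ))
      have := pow_gcd_eq_one.2 ⟨h1, hk'⟩
      rw [hcop.gcd_eq_one, pow_one] at this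
      exact hz1' this
    have hconj : n * z * n⁻¹ ∈ (P : Subgroup W) := (Subgroup.mem_normalizer_iff.1 hn z).1 hzP
    have hcases := conj_cases (p := p) h2 hzs hzp (n := (n : SL(2, F))) (by simpa using hcz _ hconj)
    have hnz : (n : SL(2, F)) * z = z * n := by
      rcases hcases with e | e
      · exact mul_inv_eq_iff_eq_mul.1 e
      · have hsq : Commute ((n : SL(2, F)) ^ 2) z := by
          show _ = _
          apply mul_inv_eq_iff_eq_mul.1
          have e2 : (n : SL(2, F)) * (z : SL(2, F))⁻¹ * (n : SL(2, F))⁻¹ = z := by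
            conv_rhs => rw [← inv_inv (z : SL(2, F)), ← e]
            group
          calc (n : SL(2, F)) ^ 2 * z * ((n : SL(2, F)) ^ 2)⁻¹
              = (n : SL(2, F)) * ((n : SL(2, F)) * z * (n : SL(2, F))⁻¹) * (n : SL(2, F))⁻¹ := by rw [pow_two]; group
            _ = z := by rw [e, e2]
        have hord : ¬ 2 ∣ orderOf (n : SL(2, F)) := fun h =>
          hodd (h.trans (by rw [Subgroup.orderOf_coe]; exact orderOf_dvd_natCard n))
        obtain ⟨k, hk⟩ := Nat.odd_iff.2 (Nat.two_dvd_ne_zero.1 hord)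
        have hn2 : (n : SL(2, F)) = ((n : SL(2, F)) ^ 2) ^ (k + 1) := by
          rw [← pow_mul, show 2 * (k + 1) = orderOf (n : SL(2, F)) + 1 by omega, pow_succ, pow_orderOf_eq_one, one_mul]
        rw [hn2]
        exact (hsq.pow_left _).eq
    exact Subtype.ext (commute_of_commute hzs (hcz g hg) hnz)
  -- the elements whose order is a power of p form a subgroup
  let K : Subgroup W := ⨅ (ℓ : ℕ) (hℓ : Fact ℓ.Prime) (_ : ℓ ≠ p) (P : Sylow ℓ W),
    (MonoidHom.transferSylow P (@hN ℓ hℓ ‹_› P)).ker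
  have hKp : IsPGroup p K := by
    rw [IsPGroup.iff_card]
    refine ⟨_, Nat.eq_prime_pow_of_unique_prime_dvd (Nat.card_pos).ne' fun {ℓ} hℓ hd => ?_⟩
    by_contra hne
    haveI := Fact.mk hℓ
    have P : Sylow ℓ W := default
    refine MonoidHom.not_dvd_card_ker_transferSylow P (hN ℓ hne P) (hd.trans (Subgroup.card_dvd_of_le ?_))
    exact iInf_le_of_le ℓ (iInf_le_of_le (Fact.mk hℓ) (iInf_le_of_le hne (iInf_le _ P)))
  have hmem : ∀ w : W, w ^ p = 1 → w ∈ K := by
    intro w hw
    simp only [K, Subgroup.mem_iInf]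
    intro ℓ hℓ hne P
    haveI := hℓ
    rw [MonoidHom.mem_ker]
    set φ := MonoidHom.transferSylow P (hN ℓ hne P)
    obtain ⟨k, hk⟩ := P.isPGroup' (φ w)
    have h1 : φ w ^ p = 1 := by rw [← map_pow, hw, map_one]
    have := pow_gcd_eq_one.2 ⟨h1, hk⟩
    rwa [(Nat.Coprime.pow_right k ((Nat.coprime_primes Fact.out Fact.out).2 (Ne.symm hne))).gcd_eq_one, pow_one] at this
  have himg : ∀ b (s : F) (hs : img F (b, s) ∈ W), (⟨_, hs⟩ : W) ^ p = 1 := by
    intro b s hs
    apply Subtype.ext
    rw [SubgroupClass.coe_pow]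
    have hn : ∀ n : ℕ, img F (b, s) ^ n = img F (b, (n : F) * s) := by
      intro n
      induction n with
      | zero => apply Subtype.ext; rw [pow_zero]; cases b <;> simp [coe_img, Matrix.one_fin_two]
      | succ m ih =>
        rw [pow_succ, ih]
        apply Subtype.ext
        rw [Matrix.SpecialLinearGroup.coe_mul, coe_img, coe_img, coe_img]
        cases b <;> simp <;> ring
    show img F (b, s) ^ p = 1
    rw [hn p, CharP.cast_eq_zero, zero_mul]
    apply Subtype.ext
    cases b <;> simp [coe_img, Matrix.one_fin_two]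
  have hU := hmem _ (himg true 1 hu)
  have hL := hmem _ (himg false c hl)
  haveI : Nontrivial K := by
    refine ⟨⟨⟨_, hU⟩, 1, fun e => ?_⟩⟩
    have := congrArg (fun x : K => ((x : W) : SL(2, F)).1 0 1) e
    simp [coe_img] at this
  have := hKp.center_nontrivial
  obtain ⟨⟨⟨z, hzK⟩, hzc⟩, hz1⟩ := exists_ne (1 : Subgroup.center K)
  set u := ((z : W) : SL(2, F)).1
  have ent : ∀ b s (hs : img F (b, s) ∈ W) (hk : (⟨_, hs⟩ : W) ∈ K) (i j : Fin 2),
      ((img F (b, s)).1 * u) i j = (u * (img F (b, s)).1) i j := fun b s hs hk i j =>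
    congrArg (fun x : K => ((x : W) : SL(2, F)).1 i j) (Subgroup.mem_center_iff.1 hzc ⟨_, hk⟩)
  have a00 := ent true 1 hu hU 0 0
  have a01 := ent true 1 hu hU 0 1
  have b00 := ent false c hl hL 0 0
  simp only [coe_img, Matrix.mul_apply, Fin.sum_univ_two] at a00 a01 b00
  simp at a00 a01 b00
  refine hz1 (Subtype.ext (Subtype.ext (hscal z ⟨?_, a00, ?_⟩)))
  · rcases b00 with b00 | b00
    · exact b00
    · exact absurd b00 hc
  · linear_combination -a01

end CfsgLib.SubfieldOver
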