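import Cfsg.Agent.Lib.SubfieldOver.Spec
import Cfsg.Agent.Lib.SubfieldOver.SL2
import Cfsg.Agent.Lib.SubfieldOver.Parab
import Cfsg.Agent.Lib.SubfieldOver.Checks
import Cfsg.Agent.Lib.ChevSL2.Hom

/-!
# A finite group containing the root elements with parameter one consists of points over its finite field

The conjugates of a long root element are fixed by the Frobenius endomorphism: either a commutator with a fixed
root element gives a fixed unipotent element centralising the conjugate, or (odd characteristic) the opposite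
pair generates `-1` in a finite subgroup of SL(2), or (characteristic two) the product with a second involution
has even order.
-/

set_option autoImplicit false
set_option linter.unusedSectionVars false
set_option linter.style.haveILetI false
set_option maxHeartbeats 800000

namespace CfsgLib.SubfieldOver

open Cfsg.Lie CfsgLib.Chev CfsgLib.ChevField CfsgLib.ChevCent CfsgLib.SteinbergTwo
open scoped MatrixGroups

variable {D : ChevalleyDatum} {T : Tabs} {F : Type*} [Field F]

/-- the facts read off from the final test -/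
structure EndFacts (D : ChevalleyDatum) (Lg : ℕ → Bool) (d : ℕ) (ia ib : Fin D.rank) : Prop where
  top_lt : top D < D.nroots
  lg_top : Lg (top D) = true
  lg_refl : ∀ i, i < D.rank → ∀ r, r < D.nroots → Lg (D.reflectRoot i r) = Lg r
  pairs : ∀ b, b < D.nroots / 2 → Lg b = true → b ≠ D.neg (top D) → pairTest D (top D) b = true
  split : ∀ r, r < D.nroots → Pos D r → r ≠ top D → D.commTerms r (top D) = [] ∧
    (D.pairing (top D) r = 1 ∨ (D.pairing (top D) r = 0 ∧ D.commTerms r (D.neg (top D)) = []))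
  unit : ∃ r, r < D.nroots ∧ D.pairing (top D) r = 1
  d_lt : d < D.nroots
  d_pos : Pos D d
  d_ne : d ≠ top D
  d_pair : pairTest D d (D.neg (top D)) = true
  short : ia = ib → Lg (D.simple ia.val) = false
  pair : ia ≠ ib → D.simple ia.val < D.simple ib.val ∧ D.commTerms (D.simple ia.val) (D.simple ib.val) = []

theorem endFacts {Lg : ℕ → Bool} {d : ℕ} {ia ib : Fin D.rank} (h : endTest D Lg d ia ib = true) :
    EndFacts D Lg d ia ib := by
  simp only [endTest, Bool.and_eq_true, Bool.or_eq_true, decide_eq_true_eq, List.all_eq_true, List.any_eq_true,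
    List.mem_range, beq_iff_eq, List.isEmpty_iff, Bool.not_eq_true'] at h
  obtain ⟨⟨⟨⟨⟨⟨⟨hn, hlg⟩, hrefl⟩, hpairs⟩, hsplit⟩, hunit⟩, ⟨⟨⟨hd1, hd2⟩, hd3⟩, hd4⟩⟩, hab⟩ := h
  refine ⟨by unfold top; omega, hlg, hrefl, fun b hb hL hne => ?_, fun r hr hp hne => ?_, hunit, hd1, hd2, hd3, hd4,
    fun e => ?_, fun e => ?_⟩
  · rcases hpairs b hb with (h | h) | h
    · exact absurd (h.symm.trans hL) Bool.false_ne_true
    · exact absurd h hne
    · exact h
  · rcases hsplit r hr with (h | h) | h
    · have : D.nroots / 2 ≤ r := hp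
      omega
    · exact absurd h hne
    · exact h
  · simpa [e] using hab
  · simpa [e] using hab

/-- a field endomorphism fixes the torus element of `-1` -/
theorem glMap_torus_neg_one (σ : F →+* F) (r : ℕ) :
    glMap D σ (torus D T F (corChar D T r (-1))) = torus D T F (corChar D T r (-1)) := by
  rw [glMap_torus]
  congr 1
  funext j
  rw [corChar, map_zpow]
  congr 1
  ext
  simp

section
variable (hc : Checked D T)
include hc

theorem elX_pow {r : ℕ} (hr : r < D.nroots) (t : F) (n : ℕ) : elX D F r t ^ n = elX D F r ((n : F) * t) := by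
  induction n with
  | zero => rw [pow_zero, Nat.cast_zero, zero_mul, elX_zero hc F hr]
  | succ n ih => rw [pow_succ, ih, elX_add hc F hr, Nat.cast_succ, add_mul, one_mul]

theorem pairing_comb (r : ℕ) {a b v : ℕ} (ha : a < D.nroots) (hb : b < D.nroots) (hv : v < D.nroots) {i j : ℤ}
    (e : rv D T v = i • rv D T a + j • rv D T b) (hr : r < D.nroots) :
    D.pairing r v = i * D.pairing r a + j * D.pairing r b := by
  simp only [pairing_eq hc hr, cartan_linear hc _ hv, cartan_linear hc _ ha, cartan_linear hc _ hb, e, Pi.add_apply,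
    Pi.smul_apply, smul_eq_mul, mul_add, Finset.sum_add_distrib, Finset.mul_sum]
  congr 1 <;> exact Finset.sum_congr rfl fun k _ => Finset.sum_congr rfl fun l _ => by ring

theorem torus_corChar_conj {r s : ℕ} (hr : r < D.nroots) (hs : s < D.nroots) (e : Fˣ) (t : F) :
    torus D T F (corChar D T r e) * elX D F s t * (torus D T F (corChar D T r e))⁻¹ =
      elX D F s (((e ^ D.pairing r s : Fˣ) : F) * t) := by
  rw [torus_conj_elX hc _ hs, chi_corChar hc hs, ← pairing_eq hc hr]

/-- the homomorphism from SL(2) onto the group of a root with a coroot of value one at some root is injective -/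
theorem hom_injective {r : ℕ} (hr : r < D.nroots) (hrp : Pos D r) (hunit : ∃ s, s < D.nroots ∧ D.pairing r s = 1)
    {φ : SL(2, F) →* GL D.Idx F} (hφ : ∀ b t, φ (img F (b, t)) = ChevSL2.rootPair D F r b t) :
    Function.Injective φ := by
  have hneg : D.neg r < D.nroots / 2 := by
    have := neg_eq hc hr
    have := nroots_eq_two_mul hc
    have : D.nroots / 2 ≤ r := hrp
    omega
  rw [← MonoidHom.ker_eq_bot_iff, Subgroup.eq_bot_iff_forall]
  intro z hz
  rw [MonoidHom.mem_ker] at hz
  have hdet := sl2_det z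
  by_cases h10 : z.1 1 0 = 0
  · rw [h10, mul_zero, sub_zero] at hdet
    have h00 : z.1 0 0 ≠ 0 := fun h => by rw [h, zero_mul] at hdet; exact zero_ne_one hdet
    set a : Fˣ := Units.mk0 (z.1 0 0) h00
    have ez : z = hWord (fun b t => img F (b, t)) (a : F) * img F (true, z.1 0 1 / z.1 0 0) := by
      apply Subtype.ext
      rw [Matrix.SpecialLinearGroup.coe_mul, hWord, Matrix.SpecialLinearGroup.coe_mul, img_wWord F true a.ne_zero,
        img_wWord F true (neg_ne_zero.2 (one_ne_zero (α := F))), coe_img]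
      have h11 : z.1 1 1 = (z.1 0 0)⁻¹ := eq_inv_of_mul_eq_one_right hdet
      ext i j
      fin_cases i <;> fin_cases j <;> simp [a, h10, h11, mul_div_cancel₀, h00]
    have hzW : φ (hWord (fun b t => img F (b, t)) (a : F)) = torus D T F (corChar D T r a) := by
      rw [← ChevSL2.hWord_rootPair hc hr]
      simp only [hWord, wWord, map_mul, hφ]
    rw [ez, map_mul, hzW, hφ, ChevSL2.rootPair, if_pos rfl] at hz
    have hx : elX D F r (z.1 0 1 / z.1 0 0) * torus D T F (corChar D T r a) = 1 := mul_eq_one_comm.1 hz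
    obtain ⟨hx1, -, ht⟩ := uh_eq_vh hc (ψ := 1) (elX_mem_uGen hr (P := Pos D) hrp _) (one_mem _)
      (by rw [hx, map_one, one_mul])
    have hb : z.1 0 1 = 0 := (div_eq_zero_iff.1 ((elX_eq_one_iff hc hr _).1 hx1)).resolve_right h00
    obtain ⟨s, hs, hrs⟩ := hunit
    have h1 := torus_corChar_conj hc hr hs a (1 : F)
    rw [ht, map_one, one_mul, inv_one, mul_one, hrs, zpow_one, mul_one] at h1
    have ha : z.1 0 0 = 1 := by
      by_contra hne
      have h2 : elX D F s ((a : F) - 1) = 1 := by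
        rw [sub_eq_add_neg, ← elX_add hc F hs, ← h1, elX_add hc F hs, add_neg_cancel, elX_zero hc F hs]
      exact hne (sub_eq_zero.1 ((elX_eq_one_iff hc hs _).1 h2))
    have h11 : z.1 1 1 = 1 := by rwa [ha, one_mul] at hdet
    ext i j
    fin_cases i <;> fin_cases j <;> simp [h10, hb, ha, h11]
  · exfalso
    have ez : z = img F (true, (z.1 0 0 - 1) / z.1 1 0) * img F (false, z.1 1 0) *
        img F (true, (z.1 1 1 - 1) / z.1 1 0) := by
      apply Subtype.ext
      rw [Matrix.SpecialLinearGroup.coe_mul, Matrix.SpecialLinearGroup.coe_mul, coe_img, coe_img, coe_img]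
      ext i j
      fin_cases i <;> fin_cases j <;> simp [Matrix.mul_apply, Fin.sum_univ_two] <;> field_simp
      all_goals first | ring1 | linear_combination hdet | linear_combination -hdet
    rw [ez, map_mul, map_mul, hφ, hφ, hφ] at hz
    simp only [ChevSL2.rootPair, if_true, Bool.false_eq_true, if_false] at hz
    refine elX_not_mem_borel hc (neg_lt hc hr) hneg h10 ?_
    rw [eq_inv_mul_of_mul_eq (mul_eq_one_iff_eq_inv.1 hz)]
    exact mul_mem (inv_mem (elX_mem_borel hc hr hrp _)) (inv_mem (elX_mem_borel hc hr hrp _))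

variable (hcomm : CommOne D T)
include hcomm

theorem commute_of_terms {a b : ℕ} (ha : a < D.nroots) (hb : b < D.nroots) (hne : b ≠ a) (hneg : b ≠ D.neg a)
    (h : D.commTerms a b = []) (t u : F) : Commute (elX D F a t) (elX D F b u) := by
  have e := elX_conj_elX hc hcomm ha hb hne hneg t u
  simp only [wordGL, ChevalleyDatum.commWord, h, List.map_nil, List.prod_nil, mul_one] at e
  exact mul_inv_eq_iff_eq_mul.1 e

theorem pair_cases {a b : ℕ} (ha : a < D.nroots) (hb : b < D.nroots) (h : pairTest D a b = true) {c : F}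
    (hc0 : c ≠ 0) :
    Commute (elX D F a 1) (elX D F b c) ∨ ∃ v c', v < D.nroots ∧ c' ≠ 0 ∧
      elX D F a 1 * elX D F b c * (elX D F a 1)⁻¹ = elX D F b c * elX D F v c' ∧
      Commute (elX D F a 1) (elX D F v c') ∧ Commute (elX D F b c) (elX D F v c') := by
  simp only [pairTest, Bool.and_eq_true, decide_eq_true_eq] at h
  obtain ⟨⟨hne, hneg⟩, h⟩ := h
  split at h
  case h_1 heq => exact Or.inl (commute_of_terms hc hcomm ha hb hne hneg heq _ _)
  case h_3 => exact absurd h Bool.false_ne_true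
  rename_i v e i j heq
  simp only [Bool.and_eq_true, decide_eq_true_eq, List.isEmpty_iff] at h
  obtain ⟨⟨⟨⟨⟨⟨⟨⟨⟨hv, rfl⟩, rfl⟩, he⟩, hva⟩, hva'⟩, hvb⟩, hvb'⟩, hav⟩, hbv⟩ := h
  refine Or.inr ⟨v, (e : F) * c, hv, mul_ne_zero (intCast_one_ne_zero he) hc0, ?_,
    commute_of_terms hc hcomm ha hv hva hva' hav _ _, commute_of_terms hc hcomm hb hv hvb hvb' hbv _ _⟩
  have hx := elX_conj_elX hc hcomm (F := F) ha hb hne hneg 1 c
  simpa [wordGL, ChevalleyDatum.commWord, heq] using hx

variable {σ : F →+* F} {H : Subgroup (GL D.Idx F)} (hH : Over D σ H)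
  (hB : ∀ g ∈ D.borelSubgroup F, g ∈ H → glMap D σ g = g) (htest : linkTest D = true)
  (p : ℕ) [Fact p.Prime] [CharP F p]
  {Lg : ℕ → Bool} {d : ℕ} {ia ib : Fin D.rank} (hE : EndFacts D Lg d ia ib)
include hE

omit hcomm in
theorem ctr_top : Ctr D F (top D) :=
  ⟨pos_top (Nat.zero_lt_of_lt hE.top_lt), fun a ha hap hne q hq => by rw [(hE.split a ha hap hne).1] at hq; simp at hq⟩

theorem top_commute {u : GL D.Idx F} (hu : u ∈ uGen D F (Pos D)) (t : F) : Commute (elX D F (top D) t) u :=
  ctr_commute hc hcomm hE.top_lt (ctr_top hc hE) t hu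

omit hcomm in
theorem lg_sigs (L : List (Fin D.rank)) : Lg (sigs D T L (top D)) = true := by
  induction L with
  | nil => exact hE.lg_top
  | cons i L ih =>
    have hs := sigs_lt hc L hE.top_lt (T := T)
    rw [sigs_cons, ← reflectRoot_eq hc i hs, hE.lg_refl i i.2 _ hs, ih]

/-- the conjugates of the long root element -/
theorem conj_form {g : GL D.Idx F} (hg : g ∈ D.group F) :
    ∃ u ∈ uGen D F (Pos D), ∃ b c, b < D.nroots ∧ Lg b = true ∧ c ≠ 0 ∧
      g * elX D F (top D) 1 * g⁻¹ = u * elX D F b c * u⁻¹ := by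
  obtain ⟨L, u, h, v, hu, hh, hv, rfl⟩ := ChevField.exists_bruhat hc hcomm hg
  obtain ⟨x, rfl⟩ := (mem_diagonal hc).1 hh
  obtain ⟨c, -, hcx⟩ := nProd_conj_elX hc (F := F) L hE.top_lt
  have hb := sigs_lt hc L hE.top_lt (T := T)
  have hvx := top_commute hc hcomm hE (uGen_mono (fun r _ h => h.1) hv) (1 : F)
  refine ⟨u, hu, _, (chi (hPar D F x) (rv D T (sigs D T L (top D))) : F) * ((c : F) * 1), hb, lg_sigs hc hE L,
    mul_ne_zero (Units.ne_zero _) (by simp), ?_⟩
  rw [← torus_conj_elX hc _ hb, ← hcx]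
  conv_lhs =>
    rw [show ∀ a b : GL D.Idx F, a * v * b * (a * v)⁻¹ = a * (v * b * v⁻¹) * a⁻¹ from fun a b => by group,
      ← hvx.eq, mul_inv_cancel_right]
  group

include hH

omit hcomm hE in
theorem root_fixed {r : ℕ} (hr : r < D.nroots) {t : F} (ht : σ t = t) :
    elX D F r t ∈ H ∧ glMap D σ (elX D F r t) = elX D F r t :=
  ⟨hH.root r hr t ht, (elX_fixed hc σ hr).2 ht⟩

include hB htest p

omit hE in
theorem cent_root {r : ℕ} (hr : r < D.nroots) {c : GL D.Idx F} (hcH : c ∈ H) (h : Commute c (elX D F r 1)) :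
    glMap D σ c = c := by
  obtain ⟨h1, h2⟩ := root_fixed hc hH hr (map_one σ)
  refine centralizer_fixed hc hcomm hH hB htest p h1 h2 (n := 1) ?_ (fun e => ?_) hcH h.eq
  · rw [pow_one, elX_pow hc hr, CharP.cast_eq_zero, zero_mul, elX_zero hc F hr]
  · exact one_ne_zero ((elX_eq_one_iff hc hr _).1 e)

omit hE in
/-- the commutator trick -/
theorem pair_fixed {a b : ℕ} (ha : a < D.nroots) (hb : b < D.nroots) (hab : pairTest D a b = true)
    {u : GL D.Idx F} (hu : Commute u (elX D F a 1)) {c : F} (hc0 : c ≠ 0) (hy : u * elX D F b c * u⁻¹ ∈ H) :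
    glMap D σ (u * elX D F b c * u⁻¹) = u * elX D F b c * u⁻¹ := by
  have hua : u * elX D F a 1 * u⁻¹ = elX D F a 1 := by rw [hu.eq, mul_inv_cancel_right]
  rcases pair_cases hc hcomm ha hb hab hc0 with h | ⟨v, c', hv, hc', e, hav, hbv⟩
  · refine cent_root hc hcomm hH hB htest p ha hy ?_
    have := (Commute.conj_iff u).2 h.symm
    rwa [hua] at this
  · have haH : elX D F a 1 ∈ H := hH.root a ha 1 (map_one σ)
    set y := u * elX D F b c * u⁻¹
    set z := u * elX D F v c' * u⁻¹ with hz
    have hzH : z ∈ H := by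
      have := mul_mem (inv_mem hy) (mul_mem (mul_mem haH hy) (inv_mem haH))
      convert this using 1
      rw [hz, show elX D F v c' = (elX D F b c)⁻¹ * (elX D F a 1 * elX D F b c * (elX D F a 1)⁻¹) by
        rw [e, inv_mul_cancel_left]]
      conv_rhs => rw [← hua]
      simp only [y]
      group
    have hσz : glMap D σ z = z := by
      refine cent_root hc hcomm hH hB htest p ha hzH ?_
      have := (Commute.conj_iff u).2 hav.symm
      rwa [hua] at this
    refine centralizer_fixed hc hcomm hH hB htest p hzH hσz (n := 1) ?_ ?_ hy ((Commute.conj_iff u).2 hbv).eq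
    · rw [pow_one, hz, conj_pow, elX_pow hc hv, CharP.cast_eq_zero, zero_mul, elX_zero hc F hv, mul_one,
        mul_inv_cancel]
    · intro hh
      exact hc' ((elX_eq_one_iff hc hv _).1 (conj_eq_one_iff.1 hh))

/-- the opposite root in odd characteristic -/
theorem opposite_fixed (hp : p ≠ 2) {u : GL D.Idx F} (hu : u ∈ uGen D F (Pos D)) {c : F} (hc0 : c ≠ 0)
    (hy : u * elX D F (D.neg (top D)) c * u⁻¹ ∈ H) :
    glMap D σ (u * elX D F (D.neg (top D)) c * u⁻¹) = u * elX D F (D.neg (top D)) c * u⁻¹ := by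
  classical
  set ρ := top D
  have hρ : ρ < D.nroots := hE.top_lt
  have hρp : Pos D ρ := (ctr_top (F := F) hc hE).1
  have h2 : (2 : F) ≠ 0 := Ring.two_ne_zero (by rw [ringChar.eq F p]; exact hp)
  have hpρ : D.pairing ρ ρ = 2 := by rw [pairing_eq hc hρ]; exact coroot_pair_self hc hρ
  set h := torus D T F (corChar D T ρ (-1)) with hh
  set Q : ℕ → Prop := fun r => Pos D r ∧ (r = ρ ∨ D.pairing ρ r = 1) with hQdef
  set R : ℕ → Prop := fun r => Pos D r ∧ r ≠ ρ ∧ D.pairing ρ r = 0 ∧ D.commTerms r (D.neg ρ) = []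
  obtain ⟨a, ha, b, hb, rfl⟩ := uGen_split hc hcomm (closedPos_pos hc) (Q := Q) (R := R)
    (fun r hr hp => by
      by_cases e : r = ρ
      · exact Or.inl ⟨hp, Or.inl e⟩
      · rcases (hE.split r hr hp e).2 with h | ⟨h, h'⟩
        · exact Or.inl ⟨hp, Or.inr h⟩
        · exact Or.inr ⟨hp, e, h, h'⟩) hu
  have haU : a ∈ uGen D F (Pos D) := uGen_mono (fun r _ h => h.1) ha
  have hbc : Commute b (elX D F (D.neg ρ) c) := by
    have hle : uGen D F R ≤ Subgroup.centralizer ({elX D F (D.neg ρ) c} : Set (GL D.Idx F)) := by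
      rw [uGen_le_iff]
      rintro r hr ⟨hrp, hne, -, he⟩ t
      rw [Subgroup.mem_centralizer_singleton_iff]
      refine (commute_of_terms hc hcomm hr (neg_lt hc hρ) (fun e => ?_) (fun e => ?_) he t c).eq
      · exact ne_neg_of_pos hc hρ hρp hrp e.symm
      · have := congrArg D.neg e
        rw [neg_neg_root hc hρ, neg_neg_root hc hr] at this
        exact hne this.symm
    exact Subgroup.mem_centralizer_singleton_iff.1 (hle hb)
  have e0 : a * b * elX D F (D.neg ρ) c * (a * b)⁻¹ = a * elX D F (D.neg ρ) c * a⁻¹ := by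
    rw [mul_assoc a b, hbc.eq]; group
  rw [e0] at hy ⊢
  clear e0 hbc hb hu
  -- the element `-1` of the finite subgroup of SL(2)
  obtain ⟨φ, -, hφ⟩ := ChevSL2.exists_hom hc (F := F) hρ
  have hinj := hom_injective hc hρ hρp hE.unit hφ
  have hjH : a * h * a⁻¹ ∈ H := by
    let φ' : SL(2, F) →* GL D.Idx F := (MulAut.conj a).toMonoidHom.comp φ
    let W : Subgroup SL(2, F) := H.comap φ'
    haveI := hH.fin
    haveI : Finite W := Finite.of_injective (fun w : W => (⟨φ' w.1, w.2⟩ : H)) fun w w' e =>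
      Subtype.ext (hinj ((MulAut.conj a).injective (congrArg Subtype.val e)))
    have happ : ∀ z, φ' z = a * φ z * a⁻¹ := fun z => rfl
    have hW := neg_one_mem (p := p) hp W hc0 (show φ' _ ∈ H by
        rw [happ, hφ, ChevSL2.rootPair, if_pos rfl, ← (top_commute hc hcomm hE haU (1 : F)).eq, mul_inv_cancel_right]
        exact hH.root ρ hρ 1 (map_one σ))
      (show φ' _ ∈ H by rw [happ, hφ, ChevSL2.rootPair, if_neg Bool.false_ne_true]; exact hy)
    have hneg1 : (-1 : SL(2, F)) = hWord (fun b t => img F (b, t)) (((-1 : Fˣ) : Fˣ) : F) := by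
      apply Subtype.ext
      rw [hWord, Matrix.SpecialLinearGroup.coe_mul, img_wWord F true (Units.ne_zero _),
        img_wWord F true (neg_ne_zero.2 (one_ne_zero (α := F)))]
      ext i j
      fin_cases i <;> fin_cases j <;> simp
    have he : φ (-1) = h := by
      rw [hneg1, hh, ← ChevSL2.hWord_rootPair hc hρ]
      simp only [hWord, wWord, map_mul, hφ]
    have : φ' (-1) ∈ H := hW
    rwa [happ, he] at this
  have hhx : ∀ r, r < D.nroots → ∀ t, h * elX D F r t * h⁻¹ = elX D F r ((((-1 : Fˣ) ^ D.pairing ρ r : Fˣ) : F) * t) :=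
    fun r hr t => torus_corChar_conj hc hρ hr _ t
  have hσh : glMap D σ h = h := glMap_torus_neg_one σ ρ
  have hσj : glMap D σ (a * h * a⁻¹) = a * h * a⁻¹ := by
    refine cent_root hc hcomm hH hB htest p hρ hjH ?_
    have e1 : Commute h (elX D F ρ 1) := by
      have := hhx ρ hρ 1
      rw [hpρ, show ((-1 : Fˣ) ^ (2 : ℤ) : Fˣ) = 1 by simp [zpow_ofNat], Units.val_one, one_mul] at this
      exact mul_inv_eq_iff_eq_mul.1 this
    have := (Commute.conj_iff a).2 e1
    rwa [← (top_commute hc hcomm hE haU (1 : F)).eq, mul_inv_cancel_right] at this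
  set w := a⁻¹ * glMap D σ a with hw
  have hwh : h * w * h⁻¹ = w := by
    rw [map_mul, map_mul, map_inv, hσh] at hσj
    rw [hw]
    set s := glMap D σ a
    calc h * (a⁻¹ * s) * h⁻¹ = a⁻¹ * (a * h * a⁻¹) * s * h⁻¹ := by group
      _ = a⁻¹ * (s * h * s⁻¹) * s * h⁻¹ := by rw [hσj]
      _ = a⁻¹ * s := by group
  have hQ : ClosedPos D T Q := by
    refine ⟨fun r _ hr => hr.1, fun r s v hr hs h1 h2 hv => ?_⟩
    have hvp : Pos D v := (closedPos_pos hc).2 r s v hr hs h1.1 h2.1 hv
    obtain ⟨hvn, i, j, hi, hj, e⟩ := hv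
    refine ⟨hvp, ?_⟩
    by_contra hh
    push Not at hh
    have hp := pairing_comb hc ρ hr hs hvn e hρ
    have h0 := ((hE.split v hvn hvp hh.1).2.resolve_left hh.2).1
    have g1 : 1 ≤ D.pairing ρ r := by rcases h1.2 with rfl | g <;> omega
    have g2 : 1 ≤ D.pairing ρ s := by rcases h2.2 with rfl | g <;> omega
    have hi' : (1 : ℤ) ≤ (i : ℤ) := by exact_mod_cast hi
    have hj' : (1 : ℤ) ≤ (j : ℤ) := by exact_mod_cast hj
    nlinarith
  obtain ⟨t, ht⟩ := uGen_exists hc hcomm hQ (mul_mem (inv_mem ha) (glMap_uGen hc σ ha) : w ∈ uGen D F Q)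
  replace ht : w = uProd D F (rootsFrom D Q 0) t := ht
  have hwρ : w = elX D F ρ (t ρ) := by
    rw [ht]
    have hmem : ∀ r ∈ rootsFrom D Q 0, r < D.nroots ∧ Q r := fun r hr => ⟨(mem_rootsFrom.1 hr).2.1, (mem_rootsFrom.1 hr).2.2⟩
    refine uProd_single hc (fun r hr => (hmem r hr).1) (nodup_rootsFrom _ _)
      (mem_rootsFrom.2 ⟨Nat.zero_le _, hρ, hρp, Or.inl rfl⟩) fun r hr hne => ?_
    have hconj : h * w * h⁻¹ =
        uProd D F (rootsFrom D Q 0) (fun r => (((-1 : Fˣ) ^ D.pairing ρ r : Fˣ) : F) * t r) := by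
      rw [ht, ← MulAut.conj_apply, uProd, uProd, map_list_prod, List.map_map]
      exact congrArg List.prod (List.map_congr_left fun r hr => hhx r (hmem r hr).1 _)
    rw [hwh, ht] at hconj
    have h1 : t r = (((-1 : Fˣ) ^ D.pairing ρ r : Fˣ) : F) * t r :=
      uProd_inj hc (fun r _ hr => hr.1) 0 hconj r hr
    rw [(hmem r hr).2.2.resolve_left hne, zpow_one, Units.val_neg, Units.val_one] at h1
    exact (mul_eq_zero.1 (show (2 : F) * t r = 0 by linear_combination h1)).resolve_left h2
  -- only the top coordinate of `a` moves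
  obtain ⟨s, hs⟩ := exists_posProd hc hcomm haU
  set μ := s ρ
  set a0 := posProd D F (Function.update s ρ 0)
  have hadd : ∀ (q : ℕ → F) (e : F), posProd D F (q + Pi.single ρ e) = posProd D F q * elX D F ρ e := by
    intro q e
    rw [← posProd_single hc hρ hρp e, posProd_add hc hcomm fun r _ _ hr => ?_]
    by_cases e' : r = ρ
    · exact e' ▸ ctr_top hc hE
    · exact absurd (Pi.single_eq_of_ne e' _) hr
  have hsplit : a = a0 * elX D F ρ μ := by
    rw [hs, ← hadd]
    congr 1
    funext r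
    by_cases e : r = ρ
    · subst e; simp [μ]
    · simp [e]
  have ha0 : glMap D σ a0 = a0 := by
    rw [glMap_posProd hc σ]
    refine uProd_congr fun r hr => ?_
    obtain ⟨hrn, hrp⟩ := mem_posRoots.1 hr
    by_cases e : r = ρ
    · subst e; simp
    · rw [Function.update_of_ne e]
      have hσa : posProd D F (fun r => σ (s r)) = posProd D F (s + Pi.single ρ (t ρ)) := by
        rw [← glMap_posProd hc σ, hadd, ← hs, ← hwρ, hw, mul_inv_cancel_left]
      have := posProd_inj hc hσa hrn hrp
      rwa [Pi.add_apply, Pi.single_eq_of_ne e, add_zero] at this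
  have ha0H : a0 ∈ H := fixed_pos_mem hc hcomm hH (posProd_mem hc _) ha0
  set y' := elX D F ρ μ * elX D F (D.neg ρ) c * (elX D F ρ μ)⁻¹
  have ey : a * elX D F (D.neg ρ) c * a⁻¹ = a0 * y' * a0⁻¹ := by rw [hsplit]; simp only [y']; group
  have hy' : y' ∈ H := by
    have := mul_mem (mul_mem (inv_mem ha0H) hy) ha0H
    rw [ey] at this
    convert this using 1
    group
  have := pair_fixed hc hcomm hH hB htest p hE.d_lt (neg_lt hc hρ) hE.d_pair
    (top_commute hc hcomm hE (elX_mem_uGen hE.d_lt (P := Pos D) hE.d_pos 1) μ) hc0 hy'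
  rw [ey, map_mul, map_mul, map_inv, ha0, this]

omit hH hB htest p in
/-- the second involution: a short root element, or a product of two commuting root elements -/
theorem exists_involution [CharP F 2] :
    ∃ i ∈ uGen D F (Pos D), i ≠ 1 ∧ i * i = 1 ∧ (∀ σ' : F →+* F, glMap D σ' i = i) ∧
      ∀ g ∈ D.group F, g * elX D F (top D) 1 * g⁻¹ ≠ i := by
  set a := D.simple ia.val
  set b := D.simple ib.val
  have ha := simple_lt hc ia.2
  have hb := simple_lt hc ib.2
  have hap : Pos D a := half_le_simple hc ia.2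
  have hbp : Pos D b := half_le_simple hc ib.2
  set k0 : GL D.Idx F := if ia = ib then 1 else elX D F b 1 with hk0
  have hsq : ∀ {r}, r < D.nroots → elX D F r (1 : F) * elX D F r 1 = 1 := fun hr => by
    rw [elX_add hc F hr, CharTwo.add_self_eq_zero, elX_zero hc F hr]
  have hlead : ∀ u ∈ uGen D F (Pos D), ∃ K ∈ uGen D F (fun s => a < s),
      u * (elX D F a 1 * k0) * u⁻¹ = elX D F a 1 * K := by
    intro u hu
    refine ⟨(elX D F a 1)⁻¹ * (u * elX D F a 1 * u⁻¹) * (u * k0 * u⁻¹),
      mul_mem (pos_conj_lead hc hcomm ha hap hu (1 : F)) ?_, by group⟩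
    by_cases e : ia = ib
    · rw [hk0, if_pos e, mul_one, mul_inv_cancel]; exact one_mem _
    · rw [hk0, if_neg e, ← mul_inv_cancel_left (elX D F b 1) (u * elX D F b 1 * u⁻¹)]
      exact mul_mem (elX_mem_uGen hb (P := fun s => a < s) (hE.pair e).1 1)
        (uGen_mono (fun s _ hs => lt_trans (hE.pair e).1 hs) (pos_conj_lead hc hcomm hb hbp hu (1 : F)))
  refine ⟨elX D F a 1 * k0, mul_mem (elX_mem_uGen ha hap 1) ?_, fun e => ?_, ?_, fun σ' => ?_, fun g hg e => ?_⟩
  · rw [hk0]; split
    · exact one_mem _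
    · exact elX_mem_uGen hb hbp 1
  · obtain ⟨K, hK, eK⟩ := hlead 1 (one_mem _)
    rw [one_mul, inv_one, mul_one, e] at eK
    refine lead_mem_closed hc hcomm ha hap (P := fun _ => False) ⟨fun _ _ h => h.elim,
      fun _ _ _ _ _ h => h.elim⟩ hK ?_
    rw [← eK]; exact one_mem _
  · by_cases e : ia = ib
    · rw [hk0, if_pos e, mul_one]; exact hsq ha
    · rw [hk0, if_neg e]
      have hab := commute_of_terms hc hcomm ha hb (ne_of_gt (hE.pair e).1) (ne_neg_of_pos hc ha hap hbp)
        (hE.pair e).2 (1 : F) 1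
      rw [mul_assoc, ← mul_assoc (elX D F b 1), ← hab.eq, mul_assoc, hsq hb, mul_one, hsq ha]
  · rw [map_mul, glMap_elX hc σ' ha, map_one, hk0]
    split
    · rw [map_one]
    · rw [glMap_elX hc σ' hb, map_one]
  · obtain ⟨u, hu, β, c, hβ, hL, hc0, eu⟩ := conj_form hc hcomm hE hg
    obtain ⟨K, hK, eK⟩ := hlead u⁻¹ (inv_mem hu)
    rw [eu] at e
    rw [← e, show u⁻¹ * (u * elX D F β c * u⁻¹) * u⁻¹⁻¹ = elX D F β c by group] at eK
    obtain ⟨hβa, hc1⟩ := eq_of_lead hc ha hap hβ one_ne_zero hc0 hK eK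
    rw [hβa] at hL
    by_cases hab : ia = ib
    · exact absurd (hL.symm.trans (hE.short hab)) (by simp)
    · rw [hβa, hc1, hk0, if_neg hab] at e
      have hcp : elX D F a 1 ∈ uGen D F (CompRoot D ib) :=
        elX_mem_uGen ha (P := CompRoot D ib) ⟨hap, ne_of_lt (hE.pair hab).1⟩ 1
      obtain ⟨a', ha', t, rfl⟩ := pos_split_simple hc hcomm ib hu
      have hn : a' * elX D F b t ∈ Subgroup.normalizer (uGen D F (CompRoot D ib) : Set (GL D.Idx F)) :=
        mul_mem (Subgroup.le_normalizer ha') (pm_simple_normalizer hc hcomm ib (Or.inl rfl) t)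
      have h1 := mul_mem (inv_mem hcp) ((Subgroup.mem_normalizer_iff.1 hn _).1 hcp)
      rw [e, inv_mul_cancel_left, ← mul_one (elX D F b 1)] at h1
      exact (lead_mem_closed hc hcomm hb hbp (closedPos_comp hc ib) (one_mem _) h1).2 rfl

omit hc hcomm hH hB htest p hE in
/-- two involutions with no conjugacy have a commuting involution -/
theorem dihedral {G : Type*} [Group G] {s t : G} (hs : s * s = 1) (ht : t * t = 1) (hfin : IsOfFinOrder (s * t))
    (hne : ∀ w ∈ Subgroup.closure {s, t}, w * s * w⁻¹ ≠ t) :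
    ∃ z ∈ Subgroup.closure {s, t}, z ≠ 1 ∧ z * z = 1 ∧ Commute z s ∧ Commute t z := by
  have hsi : s⁻¹ = s := inv_eq_of_mul_eq_one_right hs
  have hti : t⁻¹ = t := inv_eq_of_mul_eq_one_right ht
  have hst : s * t ∈ Subgroup.closure {s, t} :=
    mul_mem (Subgroup.subset_closure (by simp)) (Subgroup.subset_closure (by simp))
  have hsemi : SemiconjBy s (s * t) (s * t)⁻¹ := by
    show s * (s * t) = (s * t)⁻¹ * s
    rw [mul_inv_rev, hsi, hti, ← mul_assoc, hs, one_mul, mul_assoc, hs, mul_one]
  have hpos := hfin.orderOf_pos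
  obtain ⟨k, hk | hk⟩ := Nat.even_or_odd' (orderOf (s * t))
  · set z := (s * t) ^ k with hz
    have hz1 : z ≠ 1 := pow_ne_one_of_lt_orderOf (by omega) (by omega)
    have hz2 : z * z = 1 := by rw [hz, ← pow_add, ← two_mul, ← hk, pow_orderOf_eq_one]
    have hsz : Commute s z := by
      have := hsemi.pow_right k
      rwa [inv_pow, inv_eq_of_mul_eq_one_right hz2] at this
    refine ⟨z, pow_mem hst k, hz1, hz2, hsz.symm, ?_⟩
    have := hsz.mul_left ((Commute.refl (s * t)).pow_right k)
    rwa [← mul_assoc, hs, one_mul] at this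
  · exfalso
    set w := (s * t) ^ k with hw
    have hsw : s * w⁻¹ = w * s := by
      have : s * w = w⁻¹ * s := by have := hsemi.pow_right k; rwa [inv_pow] at this
      calc s * w⁻¹ = w * (w⁻¹ * s) * w⁻¹ := by group
        _ = w * (s * w) * w⁻¹ := by rw [this]
        _ = w * s := by group
    refine hne w (pow_mem hst k) ?_
    have h1 : w * w * (s * t) = 1 := by
      rw [hw, ← pow_add, ← pow_succ, show k + k + 1 = orderOf (s * t) by omega, pow_orderOf_eq_one]
    rw [mul_assoc, hsw, ← mul_assoc, eq_inv_of_mul_eq_one_left h1, mul_inv_rev, hsi, hti, mul_assoc, hs, mul_one]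

/-- the conjugates of the long root element in `H` are fixed -/
theorem conj_top_fixed {g : GL D.Idx F} (hg : g ∈ H) :
    glMap D σ (g * elX D F (top D) 1 * g⁻¹) = g * elX D F (top D) 1 * g⁻¹ := by
  set x := elX D F (top D) (1 : F)
  obtain ⟨hxH, hσx⟩ := root_fixed hc hH hE.top_lt (map_one σ)
  have hyH : g * x * g⁻¹ ∈ H := mul_mem (mul_mem hg hxH) (inv_mem hg)
  by_cases hp : p = 2
  · subst hp
    obtain ⟨i, hiU, hi1, hi2, hσi, hnc⟩ := exists_involution hc hcomm hE (F := F)
    have hiH : i ∈ H := fixed_pos_mem hc hcomm hH hiU (hσi σ)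
    have hiH' : g * i * g⁻¹ ∈ H := mul_mem (mul_mem hg hiH) (inv_mem hg)
    have hxx : x * x = 1 := by rw [elX_add hc F hE.top_lt, CharTwo.add_self_eq_zero, elX_zero hc F hE.top_lt]
    have hle : Subgroup.closure {x, g * i * g⁻¹} ≤ H := by
      rw [Subgroup.closure_le, Set.insert_subset_iff, Set.singleton_subset_iff]
      exact ⟨hxH, hiH'⟩
    haveI := hH.fin
    obtain ⟨z, hz, hz1, hz2, hzx, hiz⟩ := dihedral (s := x) (t := g * i * g⁻¹) hxx
      (by rw [show g * i * g⁻¹ * (g * i * g⁻¹) = g * (i * i) * g⁻¹ by group, hi2, mul_one, mul_inv_cancel])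
      (Submonoid.isOfFinOrder_coe (H := H.toSubmonoid).2
        (isOfFinOrder_of_finite (⟨x * (g * i * g⁻¹), mul_mem hxH hiH'⟩ : H)))
      (fun w hw e => hnc (g⁻¹ * w) (mul_mem (inv_mem (hH.le hg)) (hH.le (hle hw))) (by
        rw [mul_inv_rev, inv_inv, show g⁻¹ * w * x * (w⁻¹ * g) = g⁻¹ * (w * x * w⁻¹) * g by group, e]; group))
    have hσz := cent_root hc hcomm hH hB htest 2 hE.top_lt (hle hz) hzx
    have hσi' := centralizer_fixed hc hcomm hH hB htest 2 (hle hz) hσz (n := 1) (by rw [pow_one, pow_two, hz2]) hz1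
      hiH' hiz.eq
    refine centralizer_fixed hc hcomm hH hB htest 2 hiH' hσi' (n := 1) ?_ (fun e => hi1 (conj_eq_one_iff.1 e)) hyH ?_
    · rw [pow_one, conj_pow, pow_two, hi2, mul_one, mul_inv_cancel]
    · exact ((Commute.conj_iff g).2 (top_commute hc hcomm hE hiU (1 : F))).eq
  · obtain ⟨u, hu, b, c, hb, hL, hc0, e⟩ := conj_form hc hcomm hE (hH.le hg)
    rw [e] at hyH ⊢
    by_cases hbp : Pos D b
    · exact hB _ (pos_le_borel hc (mul_mem (mul_mem hu (elX_mem_uGen hb hbp c)) (inv_mem hu))) hyH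
    by_cases hbn : b = D.neg (top D)
    · subst hbn
      exact opposite_fixed hc hcomm hH hB htest p hE hp hu hc0 hyH
    · exact pair_fixed hc hcomm hH hB htest p hE.top_lt hb (hE.pairs b (Nat.lt_of_not_le hbp) hL hbn)
        (top_commute hc hcomm hE hu (1 : F)).symm hc0 hyH

/-- every element of `H` is fixed -/
theorem all_fixed {g : GL D.Idx F} (hg : g ∈ H) : glMap D σ g = g := by
  have key : ∀ r, r < D.nroots → ∀ g ∈ H, Commute (elX D F r 1) (g⁻¹ * glMap D σ g) := by
    intro r hr
    refine root_induction hc (P := fun r => ∀ g ∈ H, Commute (elX D F r 1) (g⁻¹ * glMap D σ g))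
      (fun i g hg => ?_) (fun i s hs ih g hg => ?_) hr
    · have ha := simple_lt hc i.2
      have hap : Pos D (D.simple i.val) := half_le_simple hc i.2
      refine commute_diff hc hH ha ?_
      obtain ⟨hxH, -⟩ := root_fixed hc hH hE.top_lt (map_one σ)
      refine centralizer_fixed hc hcomm hH hB htest p (mul_mem (mul_mem hg hxH) (inv_mem hg))
        (conj_top_fixed hc hcomm hH hB htest p hE hg) (n := 1) ?_ (fun e => ?_)
        (mul_mem (mul_mem hg (hH.root _ ha 1 (map_one σ))) (inv_mem hg))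
        ((Commute.conj_iff g).2 (top_commute hc hcomm hE (elX_mem_uGen ha hap (1 : F)) 1).symm).eq
      · rw [pow_one, conj_pow, elX_pow hc hE.top_lt, CharP.cast_eq_zero, zero_mul, elX_zero hc F hE.top_lt, mul_one,
          mul_inv_cancel]
      · exact one_ne_zero ((elX_eq_one_iff hc hE.top_lt _).1 (conj_eq_one_iff.1 e))
    · set n := elN D F (D.simple i.val) (1 : F)
      have hn : nProd D F [i] = n := by rw [nProd_cons, nProd_nil, mul_one]
      have hnH : n ∈ H := hn ▸ nProd_mem hc hH [i]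
      have hσn : glMap D σ n = n := by rw [← hn, glMap_nProd hc σ]
      have h1 := (Commute.conj_iff n).2 (ih (g * n) (mul_mem hg hnH))
      rw [nOne_conj_elX hc i hs, map_mul, hσn,
        show n * ((g * n)⁻¹ * (glMap D σ g * n)) * n⁻¹ = g⁻¹ * glMap D σ g by group] at h1
      rcases eta_cast hc (F := F) i hs with e | e <;> rw [e] at h1
      · rwa [one_mul] at h1
      · rw [mul_one, ← elX_inv hc F (sig_lt hc i hs)] at h1
        exact Commute.inv_left_iff.1 h1
  have hw : g⁻¹ * glMap D σ g = 1 :=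
    eq_one_of_commute hc hcomm (mul_mem (inv_mem (hH.le hg)) (glMap_group hc σ (hH.le hg)))
      fun r hr => (key r hr g hg).eq.symm
  exact (inv_mul_eq_one.1 hw).symm

end

/-- a finite group containing every `x_r(1)` lies over one finite field -/
theorem exists_field (hD : D ∈ [chevG2, chevB2, chevD4, chevF4, chevE6, chevE7, chevE8]) (p : ℕ) [Fact p.Prime]
    [CharP F p] {H : Subgroup (GL D.Idx F)} (hfin : Finite H) (hle : H ≤ D.group F)
    (h1 : ∀ r, r < D.nroots → elX D F r 1 ∈ H) :
    ∃ m, 1 ≤ m ∧ (∀ r, r < D.nroots → ∀ t, elX D F r t ∈ H ↔ t ^ p ^ m = t) ∧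
      {t : F | t ^ p ^ m = t}.ncard = p ^ m ∧ ∀ g ∈ H, glMap D (iterateFrobenius F p m) g = g := by
  obtain ⟨T, hc, hcomm⟩ := exists_checked' hD
  haveI := hfin
  obtain ⟨m, hm, hiff, hcard⟩ := exists_params hD p H h1
  refine ⟨m, hm, hiff, hcard, fun g hg => ?_⟩
  have hH : Over D (iterateFrobenius F p m) H :=
    ⟨hle, fun r hr t ht => (hiff r hr t).2 (by rwa [iterateFrobenius_def] at ht),
      fun r hr t ht => by rw [iterateFrobenius_def]; exact (hiff r hr t).1 ht, hfin⟩
  have hB := borel_all hD hc hcomm p hH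
  have htest := linkTest_of_mem hD
  simp only [List.mem_cons, List.not_mem_nil, or_false] at hD
  rcases hD with rfl | rfl | rfl | rfl | rfl | rfl | rfl
  · exact all_fixed hc hcomm hH hB htest p (endFacts endTest_G2) hg
  · exact all_fixed hc hcomm hH hB htest p (endFacts endTest_B2) hg
  · exact all_fixed hc hcomm hH hB htest p (endFacts endTest_D4) hg
  · exact all_fixed hc hcomm hH hB htest p (endFacts endTest_F4) hg
  · exact all_fixed hc hcomm hH hB htest p (endFacts endTest_E6) hg
  · exact all_fixed hc hcomm hH hB htest p (endFacts endTest_E7) hg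
  · exact all_fixed hc hcomm hH hB htest p (endFacts endTest_E8) hg

end CfsgLib.SubfieldOver
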