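import Cfsg.Agent.Lib.SubfieldOver.B2Two
import Cfsg.Agent.Lib.ChevField.Descent
import Cfsg.Agent.Lib.Chev.Comm
import Cfsg.Prelude.Def_ChevAutomorphisms
import Mathlib.FieldTheory.Finite.Basic

/-!
# The parameters of the root elements in a finite group containing all `x_r(1)` form a finite field
-/

set_option autoImplicit false
set_option linter.unusedSectionVars false
set_option linter.style.haveILetI false
set_option maxHeartbeats 800000

namespace CfsgLib.SubfieldOver

open Cfsg.Lie CfsgLib.Chev

variable {D : ChevalleyDatum} {T : Tabs} {F : Type*} [Field F]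

/-- the parameters of `X_r ∩ H` -/
def par (D : ChevalleyDatum) {F : Type*} [Field F] (H : Subgroup (GL D.Idx F)) (r : ℕ) : Set F :=
  {t | elX D F r t ∈ H}

/-- the fundamental roots reachable from `i` through equal reflected images -/
def simpleClass (D : ChevalleyDatum) (i : ℕ) : ℕ → List ℕ
  | 0 => [i]
  | k + 1 => (List.range D.rank).filter fun j => (simpleClass D i k).contains j ||
      (simpleClass D i k).any fun x => D.reflectRoot j (D.simple x) == D.reflectRoot x (D.simple j)

/-- the long roots form a stable set containing the class of `i₀`, the class of `i₁` lies outside -/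
def classCheck (D : ChevalleyDatum) (Lg : ℕ → Bool) (i₀ i₁ : ℕ) : Bool :=
  decide (i₀ < D.rank) && decide (i₁ < D.rank) && (List.range D.rank).all (fun j =>
    if Lg (D.simple j) then (simpleClass D i₀ D.rank).contains j else (simpleClass D i₁ D.rank).contains j) &&
  (List.range D.rank).all fun i => (List.range D.nroots).all fun r => Lg (D.reflectRoot i r) == Lg r

theorem pairing_eq (hc : Checked D T) {r : ℕ} (hr : r < D.nroots) (s : ℕ) :
    D.pairing r s = ∑ k : Fin D.rank, cv T r k * D.cartan k s := by
  rw [ChevalleyDatum.pairing, ← List.sum_toFinset _ List.nodup_range, List.toFinset_range, Finset.sum_range]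
  exact Finset.sum_congr rfl fun k _ => by rw [coroot_eq hc hr k.2]

section
variable (hc : Checked D T) (hcomm : CommOne D T) {H : Subgroup (GL D.Idx F)} (hfin : Finite H)
  (h1 : ∀ r, r < D.nroots → elX D F r 1 ∈ H)
include hc hfin h1

theorem zero_mem_par {r : ℕ} (hr : r < D.nroots) : (0 : F) ∈ par D H r := by
  show elX D F r 0 ∈ H; rw [elX_zero hc F hr]; exact one_mem _

theorem add_mem_par {r : ℕ} (hr : r < D.nroots) {s t : F} (hs : s ∈ par D H r) (ht : t ∈ par D H r) :
    s + t ∈ par D H r := by
  show elX D F r (s + t) ∈ H; rw [← elX_add hc F hr]; exact mul_mem hs ht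

theorem neg_mem_par {r : ℕ} (hr : r < D.nroots) {t : F} (ht : t ∈ par D H r) : -t ∈ par D H r := by
  show elX D F r (-t) ∈ H; rw [← elX_inv hc F hr]; exact inv_mem ht

theorem intCast_mul_mem_par {r : ℕ} (hr : r < D.nroots) {t : F} (ht : t ∈ par D H r) (e : ℤ) :
    (e : F) * t ∈ par D H r := by
  induction e using Int.induction_on with
  | zero => simpa using zero_mem_par hc hfin h1 hr
  | succ k ih => rw [Int.cast_add, Int.cast_one, add_mul, one_mul]; exact add_mem_par hc hfin h1 hr ih ht
  | pred k ih =>
    rw [Int.cast_sub, Int.cast_one, sub_mul, one_mul, sub_eq_add_neg]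
    exact add_mem_par hc hfin h1 hr ih (neg_mem_par hc hfin h1 hr ht)

theorem par_finite {r : ℕ} (hr : r < D.nroots) : (par D H r).Finite := by
  haveI := hfin
  have : Function.Injective fun t : par D H r => (⟨elX D F r t.1, t.2⟩ : H) := by
    intro s t h
    have e : elX D F r s.1 = elX D F r t.1 := congrArg Subtype.val h
    have h2 : elX D F r (s.1 - t.1) = 1 := by
      rw [sub_eq_add_neg, ← elX_add hc F hr, e, elX_add hc F hr, add_neg_cancel, elX_zero hc F hr]
    exact Subtype.ext (sub_eq_zero.1 ((elX_eq_one_iff hc hr _).1 h2))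
  haveI := Finite.of_injective _ this
  exact Set.toFinite _

theorem unit_mul_mem_par {r : ℕ} (hr : r < D.nroots) {e : ℤ} (he : (e : F) ≠ 0) {x : F}
    (h : (e : F) * x ∈ par D H r) : x ∈ par D H r := by
  have hinj : Set.InjOn (fun y => (e : F) * y) (par D H r) := fun a _ b _ => mul_left_cancel₀ he
  have hsurj := (((par_finite hc hfin h1 hr).injOn_iff_bijOn_of_mapsTo
    (fun y hy => intCast_mul_mem_par hc hfin h1 hr hy e)).1 hinj).surjOn
  obtain ⟨y, hy, e'⟩ := hsurj h
  exact mul_left_cancel₀ he e' ▸ hy

theorem n_mem_of_one (i : Fin D.rank) : elN D F (D.simple i.val) 1 ∈ H := by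
  have hp := simple_lt hc i.2
  rw [elN, inv_one, ← elX_inv hc F (neg_lt hc hp)]
  exact mul_mem (mul_mem (h1 _ hp) (inv_mem (h1 _ (neg_lt hc hp)))) (h1 _ hp)

theorem par_sig (i : Fin D.rank) {r : ℕ} (hr : r < D.nroots) : par D H (sig D T i r) = par D H r := by
  have hn := n_mem_of_one hc hfin h1 i
  have hsub : ∀ {s : ℕ}, s < D.nroots → ∀ t ∈ par D H s, t ∈ par D H (sig D T i s) := by
    intro s hs t ht
    have h := mul_mem (mul_mem hn ht) (inv_mem hn)
    rw [nOne_conj_elX hc i hs] at h
    rcases eta_cast hc (F := F) i hs with e | e <;> rw [e] at h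
    · rwa [one_mul] at h
    · rw [neg_one_mul] at h
      simpa using neg_mem_par hc hfin h1 (sig_lt hc i hs) h
  refine Set.Subset.antisymm (fun t ht => ?_) (hsub hr)
  have := hsub (sig_lt hc i hr) t ht
  rwa [sig_sig hc i hr] at this

theorem par_class {i : ℕ} (hi : i < D.rank) (k : ℕ) :
    ∀ j ∈ simpleClass D i k, j < D.rank ∧ par D H (D.simple j) = par D H (D.simple i) := by
  induction k with
  | zero => intro j hj; rw [simpleClass, List.mem_singleton] at hj; subst hj; exact ⟨hi, rfl⟩
  | succ k ih =>
    intro j hj
    simp only [simpleClass, List.mem_filter, List.mem_range, Bool.or_eq_true, List.contains_iff_mem,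
      List.any_eq_true, beq_iff_eq] at hj
    obtain ⟨hj, hj' | ⟨x, hx, e⟩⟩ := hj
    · exact ih j hj'
    · obtain ⟨hxr, hxe⟩ := ih x hx
      refine ⟨hj, ?_⟩
      rw [← hxe, ← par_sig hc hfin h1 ⟨j, hj⟩ (simple_lt hc hxr), ← par_sig hc hfin h1 ⟨x, hxr⟩ (simple_lt hc hj)]
      rw [reflectRoot_eq hc ⟨j, hj⟩ (simple_lt hc hxr), reflectRoot_eq hc ⟨x, hxr⟩ (simple_lt hc hj)] at e
      rw [e]

theorem par_eq {Lg : ℕ → Bool} {i₀ i₁ : ℕ} (h : classCheck D Lg i₀ i₁ = true) {r : ℕ} (hr : r < D.nroots) :
    par D H r = if Lg r then par D H (D.simple i₀) else par D H (D.simple i₁) := by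
  simp only [classCheck, Bool.and_eq_true, decide_eq_true_eq, List.all_eq_true, List.mem_range, beq_iff_eq] at h
  obtain ⟨⟨⟨hi₀, hi₁⟩, hs⟩, hstab⟩ := h
  refine root_induction hc (P := fun r => par D H r = if Lg r then par D H (D.simple i₀) else par D H (D.simple i₁))
    (fun i => ?_) (fun i s hs' hP => ?_) hr
  · have := hs i i.2
    split at this <;> rename_i hL <;> rw [List.contains_iff_mem] at this
    · rw [if_pos hL]; exact (par_class hc hfin h1 hi₀ _ _ this).2
    · rw [if_neg hL]; exact (par_class hc hfin h1 hi₁ _ _ this).2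
  · rw [par_sig hc hfin h1 i hs', ← reflectRoot_eq hc i hs', hstab i i.2 s hs', hP]

include hcomm

theorem par_mul {a b v : ℕ} {e : ℤ} {rest : List (ℕ × ℤ × ℕ × ℕ)} (ha : a < D.nroots) (hb : b < D.nroots)
    (hne : b ≠ a) (hneg : b ≠ D.neg a) (h : D.commTerms a b = (v, e, 1, 1) :: rest) (he : (e : F) ≠ 0)
    (hrest : ∀ q ∈ rest, (q.2.1 : F) = 0) {t u : F} (ht : t ∈ par D H a) (hu : u ∈ par D H b) :
    t * u ∈ par D H v := by
  have hv := (commTerms_weight hc ha hb (v, e, 1, 1) (h ▸ List.mem_cons_self)).1
  refine unit_mul_mem_par hc hfin h1 hv he ?_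
  have hx := elX_conj_elX hc hcomm (F := F) ha hb hne hneg t u
  have hw : wordGL D F (D.commWord F a b (-t) u) = elX D F v ((e : F) * (t * u)) := by
    rw [ChevalleyDatum.commWord, h, wordGL, List.map_cons, List.map_cons, List.prod_cons, List.prod_eq_one, mul_one]
    · simp [mul_assoc]
    · intro g hg
      obtain ⟨p, hp, rfl⟩ := List.mem_map.1 hg
      obtain ⟨q, hq, rfl⟩ := List.mem_map.1 hp
      simp only [hrest q hq, zero_mul]
      exact elX_zero hc F (commTerms_weight hc ha hb q (h ▸ List.mem_cons_of_mem _ hq)).1
  rw [hw] at hx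
  have := mul_mem (inv_mem (show elX D F b u ∈ H from hu))
    (mul_mem (mul_mem (show elX D F a t ∈ H from ht) (show elX D F b u ∈ H from hu)) (inv_mem (show elX D F a t ∈ H from ht)))
  rwa [hx, inv_mul_cancel_left] at this

omit hcomm in
/-- torus elements of parameters scale the other parameters -/
theorem torus_scale {r : ℕ} (hr : r < D.nroots) {s : ℕ} (hs : s < D.nroots) {l : F} (hl0 : l ≠ 0)
    (hl : l ∈ par D H r) (hl' : l⁻¹ ∈ par D H (D.neg r)) {t : F} (ht : t ∈ par D H s) :
    l ^ D.pairing r s * t ∈ par D H s := by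
  have hn : ∀ {m : F}, m ∈ par D H r → -m⁻¹ ∈ par D H (D.neg r) → elN D F r m ∈ H := fun h h' =>
    mul_mem (mul_mem h h') h
  have hh : elH D F r l ∈ H := by
    refine mul_mem (hn hl (neg_mem_par hc hfin h1 (neg_lt hc hr) hl')) (hn (neg_mem_par hc hfin h1 hr (h1 r hr)) ?_)
    rw [inv_neg, inv_one, neg_neg]
    exact h1 _ (neg_lt hc hr)
  have h := mul_mem (mul_mem hh ht) (inv_mem hh)
  rw [show l = ((Units.mk0 l hl0 : Fˣ) : F) from rfl, elH_eq_torus hc hr, torus_conj_elX hc _ hs,
    chi_corChar hc hs, ← pairing_eq hc hr, Units.val_zpow_eq_zpow_val, Units.val_mk0] at h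
  exact h

end

/-- a finite additively closed set containing one and closed under multiplication is the field of a Frobenius
fixed point set -/
theorem field_card {p : ℕ} [Fact p.Prime] [CharP F p] {S : Set F} (hfin : S.Finite) (h1 : (1 : F) ∈ S)
    (hadd : ∀ s t, s ∈ S → t ∈ S → s + t ∈ S) (hneg : ∀ t ∈ S, -t ∈ S)
    (hmul : ∀ s t, s ∈ S → t ∈ S → s * t ∈ S) :
    ∃ m, 1 ≤ m ∧ (∀ t, t ∈ S ↔ t ^ p ^ m = t) ∧ S.ncard = p ^ m := by
  classical
  have hinv : ∀ t ∈ S, t⁻¹ ∈ S := by
    intro t ht
    by_cases h0 : t = 0
    · rw [h0, inv_zero]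
      have := hadd 1 _ h1 (hneg 1 h1)
      rwa [add_neg_cancel] at this
    · have hinj : Set.InjOn (fun x => t * x) S := fun a _ b _ => mul_left_cancel₀ h0
      obtain ⟨x, hx, e⟩ := ((hfin.injOn_iff_bijOn_of_mapsTo (fun x hx => hmul t x ht hx)).1 hinj).surjOn h1
      rwa [← eq_inv_of_mul_eq_one_right e]
  let K : Subfield F :=
    { carrier := S
      one_mem' := h1
      zero_mem' := by have := hadd 1 _ h1 (hneg 1 h1); rwa [add_neg_cancel] at this
      add_mem' := hadd _ _
      mul_mem' := hmul _ _
      neg_mem' := hneg _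
      inv_mem' := hinv }
  haveI : Finite K := hfin
  letI := Fintype.ofFinite K
  haveI : CharP K p := (inferInstance : CharP K.toSubring p)
  obtain ⟨m, -, hm⟩ := FiniteField.card K p
  have hcard : S.ncard = p ^ (m : ℕ) := by
    rw [← Nat.card_coe_set_eq, ← hm, ← Nat.card_eq_fintype_card]; rfl
  refine ⟨m, m.pos, fun t => ⟨fun ht => ?_, fun ht => ?_⟩, hcard⟩
  · have := congrArg Subtype.val (FiniteField.pow_card (⟨t, ht⟩ : K))
    rw [hm] at this
    simpa using this
  · by_contra hn
    have hq : 1 < p ^ (m : ℕ) := Nat.one_lt_pow m.pos.ne' (Fact.out : p.Prime).one_lt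
    have hne : (Polynomial.X ^ p ^ (m : ℕ) - Polynomial.X : Polynomial F) ≠ 0 :=
      FiniteField.X_pow_card_sub_X_ne_zero F hq
    have hsub : insert t hfin.toFinset ⊆ (Polynomial.X ^ p ^ (m : ℕ) - Polynomial.X : Polynomial F).roots.toFinset := by
      intro x hx
      rw [Multiset.mem_toFinset, Polynomial.mem_roots hne]
      have hx' : x ^ p ^ (m : ℕ) = x := by
        rcases Finset.mem_insert.1 hx with rfl | hx
        · exact ht
        · have := congrArg Subtype.val (FiniteField.pow_card (⟨x, hfin.mem_toFinset.1 hx⟩ : K))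
          rw [hm] at this
          simpa using this
      simp [hx']
    have h := (Finset.card_le_card hsub).trans ((Multiset.toFinset_card_le _).trans (Polynomial.card_roots' _))
    rw [Finset.card_insert_of_notMem (fun hh => hn (hfin.mem_toFinset.1 hh)),
      ← Set.ncard_eq_toFinset_card S hfin, hcard, FiniteField.X_pow_card_sub_X_natDegree_eq F hq] at h
    omega

/-- the long roots of `G2` -/
def lgG2 (r : ℕ) : Bool := [0, 1, 5, 6, 10, 11].contains r

/-- the long roots of `B2` -/
def lgB2 (r : ℕ) : Bool := [0, 3, 4, 7].contains r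

/-- the long roots of `F4` -/
def lgF4 (r : ℕ) : Bool :=
  [0, 1, 2, 4, 5, 6, 15, 16, 17, 21, 22, 23, 24, 25, 26, 30, 31, 32, 41, 42, 43, 45, 46, 47].contains r

theorem intCast_ne_zero_of_ne {p : ℕ} [Fact p.Prime] [CharP F p] {e : ℤ} {q : ℕ} (hq : q.Prime)
    (he : e.natAbs = q) (hp : p ≠ q) : (e : F) ≠ 0 := by
  rw [Ne, CharP.intCast_eq_zero_iff F p, Int.natCast_dvd, he]
  exact fun h => hp ((Nat.prime_dvd_prime_iff_eq Fact.out hq).1 h)

theorem intCast_one_ne_zero {e : ℤ} (he : e.natAbs = 1) : (e : F) ≠ 0 := by
  rcases Int.natAbs_eq e with h | h <;> rw [h, he] <;> simp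

/-- a set between a field and its own image under the `n`-th power map, `n` the characteristic -/
theorem eq_of_pow_sub {p : ℕ} [Fact p.Prime] [CharP F p] {L S : Set F} (hS : S.Finite) (hLS : L ⊆ S)
    (hpow : ∀ s ∈ S, s ^ p ∈ L) : L = S := by
  refine Set.eq_of_subset_of_ncard_le hLS ?_ hS
  exact Set.ncard_le_ncard_of_injOn (fun s => s ^ p) hpow (fun a _ b _ h => frobenius_inj F p h) (hS.subset hLS)

/-- the parameters of all root groups are one finite field -/
theorem exists_params (hD : D ∈ [chevG2, chevB2, chevD4, chevF4, chevE6, chevE7, chevE8]) (p : ℕ) [Fact p.Prime]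
    [CharP F p] (H : Subgroup (GL D.Idx F)) [hfin : Finite H] (h1 : ∀ r, r < D.nroots → elX D F r 1 ∈ H) :
    ∃ m, 1 ≤ m ∧ (∀ r, r < D.nroots → ∀ t, elX D F r t ∈ H ↔ t ^ p ^ m = t) ∧
      {t : F | t ^ p ^ m = t}.ncard = p ^ m := by
  classical
  obtain ⟨T, hc, hcomm⟩ := exists_checked' hD
  suffices key : ∀ S : Set F, (∀ r, r < D.nroots → par D H r = S) → (∀ s t, s ∈ S → t ∈ S → s * t ∈ S) →
      0 < D.nroots → ∃ m, 1 ≤ m ∧ (∀ r, r < D.nroots → ∀ t, elX D F r t ∈ H ↔ t ^ p ^ m = t) ∧
        {t : F | t ^ p ^ m = t}.ncard = p ^ m by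
    simp only [List.mem_cons, List.not_mem_nil, or_false] at hD
    have hone : ∀ {r : ℕ}, r < D.nroots → (1 : F) ∈ par D H r := fun hr => h1 _ hr
    rcases hD with rfl | rfl | rfl | rfl | rfl | rfl | rfl
    case inl =>
      -- G2
      have hcl : classCheck chevG2 lgG2 1 0 = true := by decide +kernel
      have hP : ∀ r, r < chevG2.nroots → par chevG2 H r = if lgG2 r then par chevG2 H 6 else par chevG2 H 7 :=
        fun r hr => par_eq hc hfin h1 hcl hr
      set L := par chevG2 H 6
      set S := par chevG2 H 7
      have hL : ∀ r, r < chevG2.nroots → lgG2 r = true → par chevG2 H r = L := fun r hr h => by rw [hP r hr, if_pos h]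
      have hS : ∀ r, r < chevG2.nroots → lgG2 r = false → par chevG2 H r = S := fun r hr h => by
        rw [hP r hr, h]; rfl
      have hLmul : ∀ s t, s ∈ L → t ∈ L → s * t ∈ L := fun s t hs ht => by
        rw [← hL 11 (by decide) (by decide)]
        exact par_mul hc hcomm hfin h1 (e := 1) (rest := []) (by decide) (b := 10) (by decide) (by decide) (by decide)
          (show chevG2.commTerms 6 10 = _ from by decide +kernel) (by simp) (by simp) hs
          (by rwa [hL 10 (by decide) (by decide)])
      obtain ⟨k, -, hk, -⟩ := field_card (p := p) (par_finite hc hfin h1 (by decide : 6 < chevG2.nroots))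
        (hone (by decide)) (fun s t => add_mem_par hc hfin h1 (by decide))
        (fun t => neg_mem_par hc hfin h1 (by decide)) hLmul
      have hLinv : ∀ l ∈ L, l⁻¹ ∈ L := fun l hl => by rw [hk] at hl ⊢; rw [inv_pow, hl]
      have hLS : L ⊆ S := by
        intro l hl
        by_cases h0 : l = 0
        · rw [h0]; exact zero_mem_par hc hfin h1 (by decide)
        · have h := torus_scale hc hfin h1 (r := 6) (s := 7) (by decide) (by decide) (inv_ne_zero h0) (hLinv l hl)
            (by rw [inv_inv, hL _ (by decide +kernel) (by decide +kernel)]; exact hl) (hone (by decide))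
          rw [show chevG2.pairing 6 7 = -1 by decide +kernel, zpow_neg_one, inv_inv, mul_one] at h
          exact h
      have hSL : S ⊆ L := by
        by_cases h3 : p = 3
        · subst h3
          have hSmul : ∀ s t, s ∈ S → t ∈ S → s * t ∈ S := fun s t hs ht => by
            rw [← hS 9 (by decide) (by decide)]
            refine par_mul hc hcomm hfin h1 (e := -2) (rest := [(10, -3, 2, 1), (11, 3, 1, 2)]) (by decide)
              (b := 8) (by decide) (by decide) (by decide) (show chevG2.commTerms 7 8 = _ from by decide +kernel)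
              (intCast_ne_zero_of_ne Nat.prime_two rfl (p := 3) (by decide)) ?_ hs
              (by rwa [hS 8 (by decide) (by decide)])
            intro q hq
            have : ((3 : ℕ) : F) = 0 := CharP.cast_eq_zero F 3
            rcases List.mem_cons.1 hq with rfl | hq
            · simpa using this
            · rw [List.mem_singleton] at hq; subst hq; simpa using this
          obtain ⟨k', -, hk', -⟩ := field_card (p := 3) (par_finite hc hfin h1 (by decide : 7 < chevG2.nroots))
            (hone (by decide)) (fun s t => add_mem_par hc hfin h1 (by decide))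
            (fun t => neg_mem_par hc hfin h1 (by decide)) hSmul
          rw [eq_of_pow_sub (p := 3) (par_finite hc hfin h1 (by decide : 7 < chevG2.nroots)) hLS fun s hs => ?_]
          by_cases h0 : s = 0
          · rw [h0, zero_pow (by decide)]; exact zero_mem_par hc hfin h1 (by decide)
          · have h := torus_scale hc hfin h1 (r := 7) (s := 10) (by decide) (by decide) h0 hs
              (by rw [hS _ (by decide +kernel) (by decide +kernel)]; show s⁻¹ ∈ S; rw [hk'] at hs ⊢; rw [inv_pow, hs])
              (hone (by decide))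
            rw [show chevG2.pairing 7 10 = 3 by decide +kernel, mul_one, hL 10 (by decide) (by decide)] at h
            exact_mod_cast h
        · intro s hs
          have h := par_mul hc hcomm hfin h1 (v := 10) (e := 3) (rest := []) (by decide : 7 < chevG2.nroots) (b := 9) (by decide)
            (by decide) (by decide) (show chevG2.commTerms 7 9 = _ from by decide +kernel)
            (intCast_ne_zero_of_ne Nat.prime_three rfl h3) (by simp) hs (hone (by decide))
          rwa [mul_one, hL 10 (by decide) (by decide)] at h
      refine key L (fun r hr => ?_) hLmul (by decide)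
      rw [hP r hr, Set.Subset.antisymm hSL hLS]; split <;> rfl
    case inr.inl =>
      -- B2
      have hcl : classCheck chevB2 lgB2 1 0 = true := by decide +kernel
      have hP : ∀ r, r < chevB2.nroots → par chevB2 H r = if lgB2 r then par chevB2 H 4 else par chevB2 H 5 :=
        fun r hr => par_eq hc hfin h1 hcl hr
      set L := par chevB2 H 4
      set S := par chevB2 H 5
      have hL7 : par chevB2 H 7 = L := by rw [hP 7 (by decide)]; rfl
      have hS6 : par chevB2 H 6 = S := by rw [hP 6 (by decide)]; rfl
      have hterm : chevB2.commTerms 5 4 = [(6, -1, 1, 1), (7, -1, 2, 1)] := by decide +kernel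
      have hmix : ∀ t u : F, t ∈ S → u ∈ L → elX chevB2 F 6 (-(t * u)) * elX chevB2 F 7 (-(t ^ 2 * u)) ∈ H := by
        intro t u ht hu
        have hx := elX_conj_elX hc hcomm (F := F) (show 5 < chevB2.nroots by decide) (show 4 < chevB2.nroots by decide)
          (by decide) (by decide) t u
        have hw : wordGL chevB2 F (chevB2.commWord F 5 4 (-t) u) =
            elX chevB2 F 6 (-(t * u)) * elX chevB2 F 7 (-(t ^ 2 * u)) := by
          simp [ChevalleyDatum.commWord, hterm, wordGL]
        rw [hw] at hx
        have := mul_mem (inv_mem (show elX chevB2 F 4 u ∈ H from hu))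
          (mul_mem (mul_mem (show elX chevB2 F 5 t ∈ H from ht) (show elX chevB2 F 4 u ∈ H from hu))
            (inv_mem (show elX chevB2 F 5 t ∈ H from ht)))
        rwa [hx, inv_mul_cancel_left] at this
      have hLS : L ⊆ S := fun u hu => by
        have h := hmix 1 u (hone (by decide)) hu
        rw [one_pow, one_mul] at h
        have h7 : elX chevB2 F 7 (-u) ∈ H :=
          neg_mem_par hc hfin h1 (by decide) (show u ∈ par chevB2 H 7 by rw [hL7]; exact hu)
        have h6 : -u ∈ par chevB2 H 6 := (Subgroup.mul_mem_cancel_right H h7).1 h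
        have := neg_mem_par hc hfin h1 (show 6 < chevB2.nroots by decide) h6
        rwa [neg_neg, hS6] at this
      by_cases h2 : p = 2
      · subst h2
        have hSL : ∀ s ∈ S, s ^ 2 ∈ L := by
          intro t ht
          have h := hmix t 1 ht (hone (by decide))
          rw [mul_one, mul_one] at h
          have h6 : elX chevB2 F 6 (-t) ∈ H :=
            neg_mem_par hc hfin h1 (by decide) (show t ∈ par chevB2 H 6 by rw [hS6]; exact ht)
          have h7 : -t ^ 2 ∈ par chevB2 H 7 := (Subgroup.mul_mem_cancel_left H h6).1 h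
          have := neg_mem_par hc hfin h1 (show 7 < chevB2.nroots by decide) h7
          rwa [neg_neg, hL7] at this
        have hSf := par_finite hc hfin h1 (show 5 < chevB2.nroots by decide)
        have heq : L = S := eq_of_pow_sub (p := 2) hSf hLS hSL
        have hroot : ∀ t ∈ L, ∃ s ∈ L, s ^ 2 = t := by
          intro t ht
          have hLf : L.Finite := heq ▸ hSf
          have hinj : Set.InjOn (fun x : F => x ^ 2) L := fun a _ b _ h => frobenius_inj F 2 h
          exact ((hLf.injOn_iff_bijOn_of_mapsTo (fun x hx => hSL x (hLS hx))).1 hinj).surjOn ht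
        have hall : ∀ r, r < chevB2.nroots → par chevB2 H r = L := fun r hr => by
          rw [hP r hr, ← heq]; split <;> rfl
        refine key L hall (fun s t hs ht => ?_) (by decide)
        exact mul_mem_params (H := H) (S := L) hc hcomm (fun r hr x => by rw [← hall r hr]; rfl) (hone (by decide))
          (fun s t => add_mem_par hc hfin h1 (by decide)) hroot (par_finite hc hfin h1 (by decide)) hs ht
      · have hSS : ∀ s t, s ∈ S → t ∈ S → s * t ∈ L := fun s t hs ht => by
          rw [← hL7]
          exact par_mul hc hcomm hfin h1 (e := 2) (rest := []) (by decide : 5 < chevB2.nroots) (b := 6) (by decide)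
            (by decide) (by decide) (show chevB2.commTerms 5 6 = _ from by decide +kernel)
            (intCast_ne_zero_of_ne Nat.prime_two rfl h2) (by simp) hs (by rwa [hS6])
        have hSL : S ⊆ L := fun s hs => by simpa using hSS s 1 hs (hone (by decide))
        refine key L (fun r hr => ?_) (fun s t hs ht => hSS s t (hLS hs) (hLS ht)) (by decide)
        rw [hP r hr, Set.Subset.antisymm hSL hLS]; split <;> rfl
    case inr.inr.inr.inl =>
      -- F4
      have hcl : classCheck chevF4 lgF4 3 0 = true := by decide +kernel
      have hP : ∀ r, r < chevF4.nroots → par chevF4 H r = if lgF4 r then par chevF4 H 24 else par chevF4 H 33 :=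
        fun r hr => par_eq hc hfin h1 hcl hr
      set L := par chevF4 H 24
      set S := par chevF4 H 33
      have hL : ∀ r, r < chevF4.nroots → lgF4 r = true → par chevF4 H r = L := fun r hr h => by rw [hP r hr, if_pos h]
      have hS : ∀ r, r < chevF4.nroots → lgF4 r = false → par chevF4 H r = S := fun r hr h => by
        rw [hP r hr, h]; rfl
      have hLmul : ∀ s t, s ∈ L → t ∈ L → s * t ∈ L := fun s t hs ht => by
        rw [← hL 26 (by decide) (by decide +kernel)]
        exact par_mul hc hcomm hfin h1 (e := 1) (rest := []) (by decide : 24 < chevF4.nroots) (b := 25) (by decide)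
          (by decide) (by decide +kernel) (show chevF4.commTerms 24 25 = _ from by decide +kernel) (by simp) (by simp) hs
          (by rwa [hL 25 (by decide) (by decide +kernel)])
      obtain ⟨k, -, hk, -⟩ := field_card (p := p) (par_finite hc hfin h1 (by decide : 24 < chevF4.nroots))
        (hone (by decide)) (fun s t => add_mem_par hc hfin h1 (by decide))
        (fun t => neg_mem_par hc hfin h1 (by decide)) hLmul
      have hLinv : ∀ l ∈ L, l⁻¹ ∈ L := fun l hl => by rw [hk] at hl ⊢; rw [inv_pow, hl]
      have hLS : L ⊆ S := by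
        intro l hl
        by_cases h0 : l = 0
        · rw [h0]; exact zero_mem_par hc hfin h1 (by decide)
        · have h := torus_scale hc hfin h1 (r := 24) (s := 28) (by decide) (by decide) (inv_ne_zero h0) (hLinv l hl)
            (by rw [inv_inv, hL _ (by decide +kernel) (by decide +kernel)]; exact hl) (hone (by decide))
          rw [show chevF4.pairing 24 28 = -1 by decide +kernel, zpow_neg_one, inv_inv, mul_one,
            hS 28 (by decide) (by decide +kernel)] at h
          exact h
      have hSL : S ⊆ L := by
        by_cases h2 : p = 2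
        · subst h2
          have hSmul : ∀ s t, s ∈ S → t ∈ S → s * t ∈ S := fun s t hs ht => by
            rw [← hS 34 (by decide) (by decide +kernel)]
            exact par_mul hc hcomm hfin h1 (e := 1) (rest := []) (by decide : 27 < chevF4.nroots) (b := 33) (by decide)
              (by decide) (by decide +kernel) (show chevF4.commTerms 27 33 = _ from by decide +kernel) (by simp) (by simp)
              (by rwa [hS 27 (by decide) (by decide +kernel)]) ht
          obtain ⟨k', -, hk', -⟩ := field_card (p := 2) (par_finite hc hfin h1 (by decide : 33 < chevF4.nroots))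
            (hone (by decide)) (fun s t => add_mem_par hc hfin h1 (by decide))
            (fun t => neg_mem_par hc hfin h1 (by decide)) hSmul
          rw [eq_of_pow_sub (p := 2) (par_finite hc hfin h1 (by decide : 33 < chevF4.nroots)) hLS fun s hs => ?_]
          by_cases h0 : s = 0
          · rw [h0, zero_pow (by decide)]; exact zero_mem_par hc hfin h1 (by decide)
          · have hs' : s⁻¹ ∈ S := by rw [hk'] at hs ⊢; rw [inv_pow, hs]
            have h := torus_scale hc hfin h1 (r := 27) (s := 25) (by decide) (by decide) (inv_ne_zero h0)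
              (by rwa [hS 27 (by decide) (by decide +kernel)])
              (by rw [inv_inv, hS _ (by decide +kernel) (by decide +kernel)]; exact hs)
              (hone (by decide))
            rw [show chevF4.pairing 27 25 = -2 by decide +kernel, mul_one, hL 25 (by decide) (by decide +kernel),
              inv_zpow', neg_neg] at h
            exact_mod_cast h
        · intro s hs
          have h := par_mul hc hcomm hfin h1 (v := 30) (e := 2) (rest := []) (by decide : 27 < chevF4.nroots) (b := 28) (by decide)
            (by decide) (by decide +kernel) (show chevF4.commTerms 27 28 = _ from by decide +kernel)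
            (intCast_ne_zero_of_ne Nat.prime_two rfl h2) (by simp)
            (show s ∈ par chevF4 H 27 by rwa [hS 27 (by decide) (by decide +kernel)]) (hone (by decide))
          rwa [mul_one, hL 30 (by decide) (by decide +kernel)] at h
      refine key L (fun r hr => ?_) hLmul (by decide)
      rw [hP r hr, Set.Subset.antisymm hSL hLS]; split <;> rfl
    case inr.inr.inl =>
      have hP : ∀ r, r < chevD4.nroots → par chevD4 H r = par chevD4 H 12 := fun r hr =>
        par_eq hc hfin h1 (Lg := fun _ => true) (i₀ := 3) (i₁ := 3) (by decide +kernel) hr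
      refine key _ hP (fun s t hs ht => ?_) (by decide)
      rw [← hP 15 (by decide)]
      exact par_mul hc hcomm hfin h1 (e := 1) (rest := []) (by decide : 12 < chevD4.nroots) (b := 14) (by decide)
        (by decide) (by decide +kernel) (show chevD4.commTerms 12 14 = _ from by decide +kernel) (by simp) (by simp) hs
        (by rwa [hP 14 (by decide)])
    case inr.inr.inr.inr.inl =>
      have hP : ∀ r, r < chevE6.nroots → par chevE6 H r = par chevE6 H 36 := fun r hr =>
        par_eq hc hfin h1 (Lg := fun _ => true) (i₀ := 5) (i₁ := 5) (by decide +kernel) hr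
      refine key _ hP (fun s t hs ht => ?_) (by decide)
      rw [← hP 38 (by decide)]
      exact par_mul hc hcomm hfin h1 (e := 1) (rest := []) (by decide : 36 < chevE6.nroots) (b := 37) (by decide)
        (by decide) (by decide +kernel) (show chevE6.commTerms 36 37 = _ from by decide +kernel) (by simp) (by simp) hs
        (by rwa [hP 37 (by decide)])
    case inr.inr.inr.inr.inr.inl =>
      have hP : ∀ r, r < chevE7.nroots → par chevE7 H r = par chevE7 H 63 := fun r hr =>
        par_eq hc hfin h1 (Lg := fun _ => true) (i₀ := 6) (i₁ := 6) (by decide +kernel) hr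
      refine key _ hP (fun s t hs ht => ?_) (by decide)
      rw [← hP 65 (by decide)]
      exact par_mul hc hcomm hfin h1 (e := 1) (rest := []) (by decide : 63 < chevE7.nroots) (b := 64) (by decide)
        (by decide) (by decide +kernel) (show chevE7.commTerms 63 64 = _ from by decide +kernel) (by simp) (by simp) hs
        (by rwa [hP 64 (by decide)])
    case inr.inr.inr.inr.inr.inr =>
      have hP : ∀ r, r < chevE8.nroots → par chevE8 H r = par chevE8 H 120 := fun r hr =>
        par_eq hc hfin h1 (Lg := fun _ => true) (i₀ := 7) (i₁ := 7) (by decide +kernel) hr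
      refine key _ hP (fun s t hs ht => ?_) (by decide)
      rw [← hP 122 (by decide)]
      exact par_mul hc hcomm hfin h1 (e := 1) (rest := []) (by decide : 120 < chevE8.nroots) (b := 121) (by decide)
        (by decide) (by decide +kernel) (show chevE8.commTerms 120 121 = _ from by decide +kernel) (by simp) (by simp) hs
        (by rwa [hP 121 (by decide)])
  intro S hS hmul hn
  obtain ⟨m, hm, hiff, hcard⟩ := field_card (p := p) (S := S) (hS 0 hn ▸ par_finite hc hfin h1 hn)
    (by rw [← hS 0 hn]; exact h1 0 hn) (fun s t => by rw [← hS 0 hn]; exact add_mem_par hc hfin h1 hn)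
    (fun t => by rw [← hS 0 hn]; exact neg_mem_par hc hfin h1 hn) hmul
  refine ⟨m, hm, fun r hr t => ?_, ?_⟩
  · rw [← hiff, ← hS r hr]; rfl
  · rw [show {t : F | t ^ p ^ m = t} = S from Set.ext fun t => (hiff t).symm]; exact hcard

end CfsgLib.SubfieldOver
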