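import Cfsg.Agent.Lib.SubfieldOver.Borel
import Cfsg.Agent.Lib.SubfieldOver.Params

/-!
# The unipotent and Borel elements of `H` are fixed, for each of the seven types and each characteristic
-/

set_option autoImplicit false
set_option linter.unusedSectionVars false
set_option linter.style.haveILetI false
set_option maxHeartbeats 800000

namespace CfsgLib.SubfieldOver

open Cfsg.Lie CfsgLib.Chev CfsgLib.ChevField CfsgLib.ChevCent

variable {D : ChevalleyDatum} {T : Tabs} {F : Type*} [Field F]

/-- the data moving the central roots -/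
def moveCheck (D : ChevalleyDatum) (bad : List ℕ) (low i j : ℕ) : Bool :=
  decide (i < D.rank) && decide (j < D.rank) && decide (low < D.nroots) && decide (D.nroots / 2 ≤ low) &&
  bad.contains low && bad.contains (top D) && bad.all (fun s => s == low || s == top D) &&
  (decide (D.nroots / 2 ≤ D.reflectRoot i (top D)) && !bad.contains (D.reflectRoot i (top D))) &&
  (low == top D || D.reflectRoot i low == low) &&
  (decide (D.nroots / 2 ≤ D.reflectRoot j low) && !bad.contains (D.reflectRoot j low))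

theorem exists_ctrData (hc : Checked D T) {bad good : List ℕ} {m low i j : ℕ}
    (h : dichCheck D bad good m = true) (h' : moveCheck D bad low i j = true) (hm : (m : F) = 0)
    (hgood : ∀ g ∈ good, ((g : ℕ) : F) ≠ 0) :
    ∃ C : CtrData D T F, C.low = low ∧ C.i.val = i := by
  obtain ⟨hd, hiff⟩ := dich_of_check h hm hgood
  simp only [moveCheck, Bool.and_eq_true, decide_eq_true_eq, List.contains_iff_mem, List.all_eq_true,
    Bool.or_eq_true, beq_iff_eq, Bool.not_eq_true'] at h'
  obtain ⟨⟨⟨⟨⟨⟨⟨⟨⟨hi, hj⟩, hlt⟩, hlp⟩, hlb⟩, htb⟩, hall⟩, hit1, hit2⟩, hil⟩, hjl1, hjl2⟩ := h'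
  have hn : top D < D.nroots := by unfold top; omega
  have e1 : D.reflectRoot i (top D) = sig D T (⟨i, hi⟩ : Fin D.rank) (top D) := reflectRoot_eq hc ⟨i, hi⟩ hn
  have e2 : D.reflectRoot i low = sig D T (⟨i, hi⟩ : Fin D.rank) low := reflectRoot_eq hc ⟨i, hi⟩ hlt
  have e3 : D.reflectRoot j low = sig D T (⟨j, hj⟩ : Fin D.rank) low := reflectRoot_eq hc ⟨j, hj⟩ hlt
  rw [e1] at hit1 hit2
  rw [e2] at hil
  rw [e3] at hjl1 hjl2
  refine ⟨⟨hd, low, hlt, (hiff low hlt hlp).2 hlb, (hiff _ hn (pos_top (by omega))).2 htb, fun s hs hC => ?_,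
    ⟨i, hi⟩, ⟨hit1, fun hC => ?_⟩, fun hne => hil.resolve_left hne, ⟨j, hj⟩, ⟨hjl1, fun hC => ?_⟩⟩, rfl, rfl⟩
  · exact (hall s ((hiff s hs hC.1).1 hC)).symm
  · exact Bool.false_ne_true (hit2.symm.trans (List.contains_iff_mem.2 ((hiff _ (sig_lt hc ⟨i, hi⟩ hn) hit1).1 hC)))
  · exact Bool.false_ne_true (hjl2.symm.trans (List.contains_iff_mem.2 ((hiff _ (sig_lt hc ⟨j, hj⟩ hlt) hjl1).1 hC)))

section
variable (hc : Checked D T) (hcomm : CommOne D T) {σ : F →+* F} {H : Subgroup (GL D.Idx F)} (hH : Over D σ H)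
include hc hcomm hH

theorem borel_of_data (p : ℕ) [Fact p.Prime] [CharP F p] (C : CtrData D T F)
    (hZ : ∀ z ∈ uGen D F (Ctr D F), z ∈ H → glMap D σ z = z) :
    ∀ g ∈ D.borelSubgroup F, g ∈ H → glMap D σ g = g :=
  fun _ hg hgH => borel_fixed hc hcomm hH C (fun _ hu huH => pos_fixed hc hcomm hH p C.dich hZ hu huH) hg hgH

theorem plain_fixed (C : CtrData D T F) (hlow : C.low = top D) :
    ∀ z ∈ uGen D F (Ctr D F), z ∈ H → glMap D σ z = z := by
  intro z hz hzH
  obtain ⟨τ, μ, h0, rfl⟩ := ctr_split hc hcomm C hz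
  have hn : top D < D.nroots := hlow ▸ C.low_lt
  rw [h0 hlow, elX_zero hc F C.low_lt, one_mul] at hzH ⊢
  exact (elX_fixed hc σ hn).2 (hH.exact _ hn _ hzH)

theorem borel_plain (p : ℕ) [Fact p.Prime] [CharP F p] {good : List ℕ} {i : ℕ}
    (h : dichCheck D [top D] good 0 = true) (h' : moveCheck D [top D] (top D) i i = true)
    (hgood : ∀ g ∈ good, ((g : ℕ) : F) ≠ 0) : ∀ g ∈ D.borelSubgroup F, g ∈ H → glMap D σ g = g := by
  obtain ⟨C, hlow, -⟩ := exists_ctrData (F := F) hc h h' Nat.cast_zero hgood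
  exact borel_of_data hc hcomm hH p C (plain_fixed hc hcomm hH C hlow)

theorem borel_special (p : ℕ) [Fact p.Prime] [CharP F p] {bad good : List ℕ} {m low i j a : ℕ} {e : ℤ}
    (h : dichCheck D bad good m = true) (h' : moveCheck D bad low i j = true) (hm : (m : F) = 0)
    (hgood : ∀ g ∈ good, ((g : ℕ) : F) ≠ 0) (ha : a < D.nroots) (hap : D.nroots / 2 ≤ a)
    (hne : a ≠ D.reflectRoot i (top D)) (he : e.natAbs = 1)
    (hterm : D.commTerms a (D.reflectRoot i (top D)) = [(top D, e, 1, 1)]) :
    ∀ g ∈ D.borelSubgroup F, g ∈ H → glMap D σ g = g := by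
  obtain ⟨C, -, hi⟩ := exists_ctrData (F := F) hc h h' hm hgood
  have hn : top D < D.nroots := by have := C.low_lt; unfold top; omega
  rw [← hi, reflectRoot_eq hc C.i hn] at hne hterm
  exact borel_of_data hc hcomm hH p C fun z hz hzH => central_fixed hc hcomm hH C ha hap hne he hterm hz hzH

end

theorem borel_b2two [CharP F 2] (hc : Checked chevB2 T) (hcomm : CommOne chevB2 T) {σ : F →+* F}
    {H : Subgroup (GL chevB2.Idx F)} (hH : Over chevB2 σ H) :
    ∀ g ∈ chevB2.borelSubgroup F, g ∈ H → glMap chevB2 σ g = g := by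
  haveI := Fact.mk Nat.prime_two
  obtain ⟨C, hlow, -⟩ := exists_ctrData (F := F) hc (bad := [6, 7]) (good := [1]) (m := 2) (low := 6) (i := 0) (j := 1)
    (by decide +kernel) (by decide +kernel) (CharP.cast_eq_zero F 2) (by simp)
  refine borel_of_data hc hcomm hH 2 C fun z hz hzH => ?_
  obtain ⟨τ, μ, -, rfl⟩ := ctr_split hc hcomm C hz
  rw [hlow] at hzH ⊢
  set S : Set F := {t | σ t = t}
  have hS : ∀ r, r < chevB2.nroots → ∀ t, elX chevB2 F r t ∈ H ↔ t ∈ S := fun r hr t =>
    ⟨hH.exact r hr t, hH.root r hr t⟩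
  have hfin : S.Finite :=
    (par_finite hc hH.fin (fun r hr => hH.root r hr 1 (map_one σ)) (show 0 < chevB2.nroots by decide)).subset
      fun t ht => hH.root 0 (by decide) t ht
  have hroot : ∀ t ∈ S, ∃ s ∈ S, s ^ 2 = t := fun t ht => by
    have hmap : Set.MapsTo (fun x : F => x ^ 2) S S := fun x (hx : σ x = x) => by
      show σ (x ^ 2) = x ^ 2
      rw [map_pow, hx]
    exact ((hfin.injOn_iff_bijOn_of_mapsTo hmap).1 (fun a _ b _ h => frobenius_inj F 2 h)).surjOn ht
  obtain ⟨hτ, hμ⟩ := pair_params hc hcomm hS (map_one σ)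
    (fun s t hs ht => by show σ (s + t) = s + t; rw [map_add, show σ s = s from hs, show σ t = t from ht])
    hroot hfin hzH
  rw [map_mul, glMap_elX hc σ (by decide), glMap_elX hc σ (show top chevB2 < chevB2.nroots by decide),
    show σ τ = τ from hτ, show σ μ = μ from hμ]

/-- the Borel elements of `H` are fixed -/
theorem borel_all (hD : D ∈ [chevG2, chevB2, chevD4, chevF4, chevE6, chevE7, chevE8]) (hc : Checked D T)
    (hcomm : CommOne D T) (p : ℕ) [Fact p.Prime] [CharP F p] {σ : F →+* F} {H : Subgroup (GL D.Idx F)}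
    (hH : Over D σ H) : ∀ g ∈ D.borelSubgroup F, g ∈ H → glMap D σ g = g := by
  have hne : ∀ q : ℕ, q.Prime → p ≠ q → ((q : ℕ) : F) ≠ 0 := fun q hq hp => by
    exact_mod_cast intCast_ne_zero_of_ne (F := F) (p := p) (e := (q : ℤ)) hq (by simp) hp
  simp only [List.mem_cons, List.not_mem_nil, or_false] at hD
  rcases hD with rfl | rfl | rfl | rfl | rfl | rfl | rfl
  · by_cases h : p = 3
    · subst h
      exact borel_special hc hcomm hH 3 (bad := [9, 11]) (good := [1, 2]) (low := 9) (i := 1) (j := 0) (a := 6) (e := 1)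
        (m := 3) (by decide +kernel) (by decide +kernel) (CharP.cast_eq_zero F 3)
        (by simpa using hne 2 Nat.prime_two (by decide)) (by decide) (by decide) (by decide +kernel) rfl
        (by decide +kernel)
    · exact borel_plain hc hcomm hH p (good := [1, 3]) (i := 1) (by decide +kernel) (by decide +kernel)
        (by simpa using hne 3 Nat.prime_three h)
  · by_cases h : p = 2
    · subst h
      exact borel_b2two hc hcomm hH
    · exact borel_plain hc hcomm hH p (good := [1, 2]) (i := 0) (by decide +kernel) (by decide +kernel)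
        (by simpa using hne 2 Nat.prime_two h)
  · exact borel_plain hc hcomm hH p (good := [1]) (i := 1) (by decide +kernel) (by decide +kernel) (by simp)
  · by_cases h : p = 2
    · subst h
      exact borel_special hc hcomm hH 2 (bad := [44, 47]) (good := [1]) (low := 44) (i := 3) (j := 0) (a := 24)
        (e := 1) (m := 2) (by decide +kernel) (by decide +kernel) (CharP.cast_eq_zero F 2) (by simp) (by decide)
        (by decide) (by decide +kernel) rfl (by decide +kernel)
    · exact borel_plain hc hcomm hH p (good := [1, 2]) (i := 3) (by decide +kernel) (by decide +kernel)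
        (by simpa using hne 2 Nat.prime_two h)
  · exact borel_plain hc hcomm hH p (good := [1]) (i := 1) (by decide +kernel) (by decide +kernel) (by simp)
  · exact borel_plain hc hcomm hH p (good := [1]) (i := 0) (by decide +kernel) (by decide +kernel) (by simp)
  · exact borel_plain hc hcomm hH p (good := [1]) (i := 7) (by decide +kernel) (by decide +kernel) (by simp)

end CfsgLib.SubfieldOver
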