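import Cfsg.Agent.Lib.ChevCent.Mixed
import Mathlib.GroupTheory.Nilpotent
import Mathlib.GroupTheory.PGroup

/-!
# Unipotent and Borel elements of a finite group containing the points over a finite subfield

`σ` is a field endomorphism; the roots whose root group is central in `U` (the highest root, and one short
root in the bad characteristics) are the only ones where the leading-term argument needs help.
-/

set_option autoImplicit false
set_option linter.unusedSectionVars false
set_option linter.style.haveILetI false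
set_option maxHeartbeats 800000

namespace CfsgLib.SubfieldOver

open Cfsg.Lie CfsgLib.Chev CfsgLib.ChevField CfsgLib.ChevCent

variable {D : ChevalleyDatum} {T : Tabs} {F : Type*} [Field F]

/-- the positive roots -/
def Pos (D : ChevalleyDatum) (r : ℕ) : Prop := D.nroots / 2 ≤ r

/-- a positive root whose root group is central in `U` -/
def Ctr (D : ChevalleyDatum) (F : Type*) [Field F] (s : ℕ) : Prop :=
  Pos D s ∧ ∀ a, a < D.nroots → Pos D a → a ≠ s → ∀ q ∈ D.commTerms a s, (q.2.1 : F) = 0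

/-- a root that some positive root moves with a coefficient invertible in `F` -/
def Partner (D : ChevalleyDatum) (F : Type*) [Field F] (s : ℕ) : Prop :=
  ∃ a v e rest, a < D.nroots ∧ Pos D a ∧ a ≠ s ∧ D.commTerms a s = (v, e, 1, 1) :: rest ∧ (e : F) ≠ 0 ∧
    ∀ q ∈ rest, v < q.1

/-- every positive root is central or has a partner -/
def Dich (D : ChevalleyDatum) (F : Type*) [Field F] : Prop :=
  ∀ s, s < D.nroots → Pos D s → Ctr D F s ∨ Partner D F s

/-- `H` meets every root group in exactly the points fixed by `σ` -/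
structure Over (D : ChevalleyDatum) {F : Type*} [Field F] (σ : F →+* F) (H : Subgroup (GL D.Idx F)) : Prop where
  le : H ≤ D.group F
  root : ∀ r, r < D.nroots → ∀ t, σ t = t → elX D F r t ∈ H
  exact : ∀ r, r < D.nroots → ∀ t, elX D F r t ∈ H → σ t = t
  fin : Finite H

/-- the ordered product over all positive roots -/
noncomputable def posProd (D : ChevalleyDatum) (F : Type*) [Field F] (t : ℕ → F) : GL D.Idx F :=
  uProd D F (rootsFrom D (Pos D) 0) t

theorem mem_posRoots {r : ℕ} : r ∈ rootsFrom D (Pos D) 0 ↔ r < D.nroots ∧ Pos D r := by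
  rw [mem_rootsFrom]; simp

theorem nodup_rootsFrom (P : ℕ → Prop) (k : ℕ) : (rootsFrom D P k).Nodup := (List.nodup_range' ..).filter _

theorem uProd_cons (r : ℕ) (L : List ℕ) (t : ℕ → F) : uProd D F (r :: L) t = elX D F r (t r) * uProd D F L t := rfl

section
variable (hc : Checked D T)
include hc

theorem uProd_zero {L : List ℕ} (hL : ∀ r ∈ L, r < D.nroots) {t : ℕ → F} (ht : ∀ r ∈ L, t r = 0) :
    uProd D F L t = 1 := by
  induction L with
  | nil => rfl
  | cons r L ih =>
    rw [uProd_cons, ht r List.mem_cons_self, elX_zero hc F (hL r List.mem_cons_self), one_mul,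
      ih (fun x hx => hL x (List.mem_cons_of_mem _ hx)) fun x hx => ht x (List.mem_cons_of_mem _ hx)]

theorem uProd_single {L : List ℕ} (hL : ∀ r ∈ L, r < D.nroots) (hn : L.Nodup) {s : ℕ} (hs : s ∈ L) {t : ℕ → F}
    (ht : ∀ r ∈ L, r ≠ s → t r = 0) : uProd D F L t = elX D F s (t s) := by
  induction L with
  | nil => simp at hs
  | cons r L ih =>
    rw [List.nodup_cons] at hn
    have hL' : ∀ x ∈ L, x < D.nroots := fun x hx => hL x (List.mem_cons_of_mem _ hx)
    rw [uProd_cons]
    by_cases e : r = s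
    · subst e
      rw [uProd_zero hc hL' fun x hx => ht x (List.mem_cons_of_mem _ hx) fun e => hn.1 (e ▸ hx), mul_one]
    · rw [ht r List.mem_cons_self e, elX_zero hc F (hL r List.mem_cons_self), one_mul]
      exact ih hL' hn.2 ((List.mem_cons.1 hs).resolve_left (Ne.symm e)) fun x hx => ht x (List.mem_cons_of_mem _ hx)

theorem posProd_single {s : ℕ} (hs : s < D.nroots) (hsp : Pos D s) (c : F) :
    posProd D F (Pi.single s c) = elX D F s c := by
  rw [posProd, uProd_single hc (fun r hr => (mem_posRoots.1 hr).1) (nodup_rootsFrom _ _) (mem_posRoots.2 ⟨hs, hsp⟩)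
    (fun r _ hr => by simp [hr]), Pi.single_eq_same]

theorem posProd_mem (t : ℕ → F) : posProd D F t ∈ uGen D F (Pos D) := mem_uGen_of_uProd hc t

theorem posProd_inj {t t' : ℕ → F} (h : posProd D F t = posProd D F t') {r : ℕ} (hr : r < D.nroots) (hp : Pos D r) :
    t r = t' r :=
  uProd_inj hc (fun _ _ h => h) 0 h r (mem_posRoots.2 ⟨hr, hp⟩)

/-- the coefficient at a root is determined modulo higher roots -/
theorem coord_unique {v : ℕ} (hv : v < D.nroots) (hvp : Pos D v) {c c' : F} {k k' : GL D.Idx F}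
    (hk : k ∈ uGen D F (fun s => v < s)) (hk' : k' ∈ uGen D F (fun s => v < s))
    (h : elX D F v c * k = elX D F v c' * k') : c = c' := by
  obtain ⟨j, hj⟩ := exists_cv_ne_zero hc F hv
  have e1 := coord_eq hc hv hvp c hk j
  have e2 := coord_eq hc hv hvp c' hk' j
  rw [h, e2] at e1
  exact (mul_left_cancel₀ hj e1).symm

theorem glMap_posProd (σ : F →+* F) (t : ℕ → F) : glMap D σ (posProd D F t) = posProd D F fun r => σ (t r) := by
  rw [posProd, posProd, uProd, uProd, map_list_prod, List.map_map]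
  exact congrArg List.prod (List.map_congr_left fun r hr => glMap_elX hc σ (mem_rootsFrom.1 hr).2.1 (t r))

theorem elX_fixed (σ : F →+* F) {r : ℕ} (hr : r < D.nroots) {t : F} :
    glMap D σ (elX D F r t) = elX D F r t ↔ σ t = t := by
  rw [glMap_elX hc σ hr]
  refine ⟨fun h => ?_, fun h => by rw [h]⟩
  have h2 : elX D F r (σ t - t) = 1 := by
    rw [sub_eq_add_neg, ← elX_add hc F hr, h, elX_add hc F hr, add_neg_cancel, elX_zero hc F hr]
  exact sub_eq_zero.1 ((elX_eq_one_iff hc hr _).1 h2)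

variable (hcomm : CommOne D T)
include hcomm

theorem exists_posProd {g : GL D.Idx F} (hg : g ∈ uGen D F (Pos D)) : ∃ t, g = posProd D F t :=
  uGen_exists hc hcomm (closedPos_pos hc) hg

theorem ctr_commute {s : ℕ} (hs : s < D.nroots) (hS : Ctr D F s) (c : F) {u : GL D.Idx F}
    (hu : u ∈ uGen D F (Pos D)) : Commute (elX D F s c) u := by
  have hle : uGen D F (Pos D) ≤ Subgroup.centralizer ({elX D F s c} : Set (GL D.Idx F)) := by
    rw [uGen_le_iff]
    intro a ha hap t
    rw [Subgroup.mem_centralizer_singleton_iff]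
    by_cases e : a = s
    · subst e; rw [elX_add hc F ha, elX_add hc F ha, add_comm]
    · have h := elX_conj_elX hc hcomm (F := F) ha hs (Ne.symm e) (ne_neg_of_pos hc ha hap hS.1) t c
      have hw : wordGL D F (D.commWord F a s (-t) c) = 1 := by
        refine List.prod_eq_one fun g hg => ?_
        obtain ⟨p, hp, rfl⟩ := List.mem_map.1 hg
        obtain ⟨q, hq, rfl⟩ := List.mem_map.1 hp
        simp only [hS.2 a ha hap e q hq, zero_mul]
        exact elX_zero hc F (commTerms_weight hc ha hs q hq).1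
      rw [hw, mul_one] at h
      exact mul_inv_eq_iff_eq_mul.1 h
  exact (Subgroup.mem_centralizer_singleton_iff.1 (hle hu)).symm

theorem posProd_add {t d : ℕ → F} (hd : ∀ r, r < D.nroots → Pos D r → d r ≠ 0 → Ctr D F r) :
    posProd D F t * posProd D F d = posProd D F (t + d) := by
  have key : ∀ L : List ℕ, (∀ r ∈ L, r < D.nroots ∧ Pos D r) →
      uProd D F L t * uProd D F L d = uProd D F L (t + d) := by
    intro L
    induction L with
    | nil => intro _; exact one_mul _
    | cons r L ih =>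
      intro h
      obtain ⟨hr, hrp⟩ := h r List.mem_cons_self
      have hA : uProd D F L t ∈ uGen D F (Pos D) := Subgroup.list_prod_mem _ fun x hx => by
        obtain ⟨a, ha, rfl⟩ := List.mem_map.1 hx
        obtain ⟨h1, h2⟩ := h a (List.mem_cons_of_mem _ ha)
        exact elX_mem_uGen h1 h2 _
      have hc' : Commute (elX D F r (d r)) (uProd D F L t) := by
        by_cases e : d r = 0
        · rw [e, elX_zero hc F hr]; exact Commute.one_left _
        · exact ctr_commute hc hcomm hr (hd r hr hrp e) _ hA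
      rw [uProd_cons, uProd_cons, uProd_cons, mul_assoc, ← mul_assoc (uProd D F L t), ← hc'.eq, mul_assoc,
        ih fun x hx => h x (List.mem_cons_of_mem _ hx), ← mul_assoc, elX_add hc F hr]
      rfl
  exact key _ fun r hr => mem_posRoots.1 hr

theorem mem_ctr {S : ℕ → Prop} (hS : ∀ s, S s → Ctr D F s) {w : GL D.Idx F} (hw : w ∈ uGen D F S) :
    ∃ d : ℕ → F, (∀ r, r < D.nroots → d r ≠ 0 → S r) ∧ w = posProd D F d := by
  have hSd : ∀ {d : ℕ → F}, (∀ r, r < D.nroots → d r ≠ 0 → S r) →
      ∀ r, r < D.nroots → Pos D r → d r ≠ 0 → Ctr D F r := fun hd r hr _ h => hS r (hd r hr h)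
  induction hw using Subgroup.closure_induction with
  | mem x hx =>
    obtain ⟨s, c, hs, hSs, rfl⟩ := hx
    refine ⟨Pi.single s c, fun r _ hr => ?_, (posProd_single hc hs (hS s hSs).1 c).symm⟩
    by_contra h
    exact hr (by simp [show r ≠ s from fun e => h (by rw [e]; exact hSs)])
  | one => exact ⟨0, fun r _ h => absurd rfl h, (uProd_zero hc (fun r hr => (mem_posRoots.1 hr).1) fun _ _ => rfl).symm⟩
  | mul x y _ _ hx hy =>
    obtain ⟨d, hd, rfl⟩ := hx
    obtain ⟨e, he, rfl⟩ := hy
    refine ⟨d + e, fun r hr h => ?_, posProd_add hc hcomm (hSd he)⟩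
    by_contra hS'
    exact h (by
      rw [Pi.add_apply, not_not.1 (fun h' => hS' (hd r hr h')), not_not.1 (fun h' => hS' (he r hr h')), add_zero])
  | inv x _ hx =>
    obtain ⟨d, hd, rfl⟩ := hx
    refine ⟨-d, fun r hr h => hd r hr (fun e => h (by simp [e])), inv_eq_of_mul_eq_one_right ?_⟩
    rw [posProd_add hc hcomm fun r hr hp h => hSd hd r hr hp (fun e => h (by simp [e])), add_neg_cancel]
    exact uProd_zero hc (fun r hr => (mem_posRoots.1 hr).1) fun _ _ => rfl

/-- the commutator of `x_a(1)` with an element led by `r` -/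
theorem partner_lead {a r v : ℕ} {e : ℤ} {rest : List (ℕ × ℤ × ℕ × ℕ)} (ha : a < D.nroots) (hap : Pos D a)
    (hr : r < D.nroots) (hrp : Pos D r) (hne : a ≠ r) (ht : D.commTerms a r = (v, e, 1, 1) :: rest)
    (hrest : ∀ q ∈ rest, v < q.1) (c : F) {k : GL D.Idx F} (hk : k ∈ uGen D F (fun s => r < s)) :
    v < D.nroots ∧ Pos D v ∧ ∃ K ∈ uGen D F (fun s => v < s),
      elX D F a 1 * (elX D F r c * k) * (elX D F a 1)⁻¹ * (elX D F r c * k)⁻¹ = elX D F v ((e : F) * c) * K := by
  obtain ⟨hv, -, -, hrv⟩ := commTerms_weight hc ha hr (v, e, 1, 1) (ht ▸ List.mem_cons_self)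
  simp only [Nat.cast_one, one_smul] at hv hrv
  have hvp : Pos D v := (closedPos_pos hc).2 a r v ha hr hap hrp ⟨hv, 1, 1, one_pos, one_pos, by simpa using hrv⟩
  refine ⟨hv, hvp, ?_⟩
  set P := uGen D F (fun s => v < s)
  have hPn : uGen D F (Pos D) ≤ Subgroup.normalizer (P : Set (GL D.Idx F)) := by
    rw [uGen_le_iff]
    intro b hb hbp t
    refine elX_mem_normalizer hc hcomm hb (fun s hs hS _ => ⟨ne_neg_of_pos hc hb hbp ?_, fun w hw => ?_⟩) t
    · have : D.nroots / 2 ≤ v := hvp
      omega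
    · have : D.nroots / 2 ≤ v := hvp
      have := (combRoot_gt hc hb hs hbp (by omega) hw).2
      omega
  have hkU : k ∈ uGen D F (Pos D) := uGen_mono (fun s _ hs => le_trans hrp (le_of_lt hs)) hk
  have hxr : elX D F r c ∈ uGen D F (Pos D) := elX_mem_uGen hr hrp c
  have hak : elX D F a 1 * k * (elX D F a 1)⁻¹ * k⁻¹ ∈ P := by
    induction hk using Subgroup.closure_induction with
    | mem x hx =>
      obtain ⟨s, t, hs, hrs, rfl⟩ := hx
      by_cases h : s = a
      · subst h
        rw [elX_inv hc F hs (1 : F), elX_add hc F hs, elX_add hc F hs, elX_inv hc F hs t, elX_add hc F hs,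
          show (1 : F) + t + -1 + -t = 0 by ring, elX_zero hc F hs]
        exact one_mem _
      · have hsp : Pos D s := le_trans hrp (le_of_lt hrs)
        rw [elX_conj_elX hc hcomm ha hs h (ne_neg_of_pos hc ha hap hsp)]
        refine (Subgroup.mem_normalizer_iff.1 (hPn (elX_mem_uGen hs hsp t)) _).1 ?_
        refine wordGL_mem hc ha hs (fun w hw => ?_) _ _
        obtain ⟨hw, i, j, hi, hj, ew⟩ := hw
        rw [← key_lt_iff hc hv hw, hrv, ew, keyLin_add, keyLin_add, keyLin_smul, keyLin_smul]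
        have k1 := (key_pos_iff hc ha).2 hap
        have k2 := (key_pos_iff hc hs).2 hsp
        have k3 := (key_lt_iff hc hr hs).2 hrs
        have hi' : (1 : ℤ) ≤ (i : ℤ) := by exact_mod_cast hi
        have hj' : (1 : ℤ) ≤ (j : ℤ) := by exact_mod_cast hj
        nlinarith
    | one => simp
    | mul x y hxm hym hx hy =>
      have hxU : x ∈ uGen D F (Pos D) := uGen_mono (fun s _ hs => le_trans hrp (le_of_lt hs)) hxm
      have hyU : y ∈ uGen D F (Pos D) := uGen_mono (fun s _ hs => le_trans hrp (le_of_lt hs)) hym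
      have h := mul_mem (hx hxU) ((Subgroup.mem_normalizer_iff.1 (hPn hxU) _).1 (hy hyU))
      convert h using 1
      group
    | inv x hxm hx =>
      have hxU : x ∈ uGen D F (Pos D) := uGen_mono (fun s _ hs => le_trans hrp (le_of_lt hs)) hxm
      have h := (Subgroup.mem_normalizer_iff.1 (hPn (inv_mem hxU)) _).1 (inv_mem (hx hxU))
      convert h using 1
      group
  have hw := elX_conj_elX hc hcomm (F := F) ha hr (Ne.symm hne) (ne_neg_of_pos hc ha hap hrp) 1 c
  simp only [wordGL, ChevalleyDatum.commWord, ht, List.map_cons, List.prod_cons, List.map_map] at hw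
  set tail := (rest.map ((fun p : ℕ × F => elX D F p.1 p.2) ∘
    fun q => (q.1, (q.2.1 : F) * (- -(1 : F)) ^ q.2.2.1 * c ^ q.2.2.2))).prod with htail
  have htl : tail ∈ P := Subgroup.list_prod_mem _ fun g hg => by
    obtain ⟨q, hq, rfl⟩ := List.mem_map.1 hg
    exact elX_mem_uGen (commTerms_weight hc ha hr q (ht ▸ List.mem_cons_of_mem _ hq)).1 (hrest q hq) _
  simp only [pow_one, neg_neg] at hw
  set e' : F := (e : F) * c
  refine ⟨(elX D F v e')⁻¹ * (elX D F r c * (elX D F v e') * (elX D F r c)⁻¹) *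
    (elX D F r c * (tail * (elX D F a 1 * k * (elX D F a 1)⁻¹ * k⁻¹)) * (elX D F r c)⁻¹),
    mul_mem (pos_conj_lead hc hcomm hv hvp hxr _)
      ((Subgroup.mem_normalizer_iff.1 (hPn hxr) _).1 (mul_mem htl hak)), ?_⟩
  rw [mul_one] at hw
  have e1 : elX D F a 1 * (elX D F r c * k) * (elX D F a 1)⁻¹ * (elX D F r c * k)⁻¹ =
      elX D F a 1 * elX D F r c * (elX D F a 1)⁻¹ * (elX D F a 1 * k * (elX D F a 1)⁻¹ * k⁻¹) * (elX D F r c)⁻¹ := by
    group
  rw [e1, hw]
  simp only [e']
  group

/-- an element of `U` commuting with every `x_a(1)` is central -/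
theorem centralizer_unip (hd : Dich D F) {w : GL D.Idx F} (hw : w ∈ uGen D F (Pos D))
    (h : ∀ a, a < D.nroots → Pos D a → Commute (elX D F a 1) w) : w ∈ uGen D F (Ctr D F) := by
  suffices key : ∀ d k, D.nroots - k = d → ∀ g ∈ uGen D F (fun r => Pos D r ∧ k ≤ r),
      (∀ a, a < D.nroots → Pos D a → Commute (elX D F a 1) g) → g ∈ uGen D F (Ctr D F) from
    key _ 0 rfl w (uGen_mono (fun r _ hr => ⟨hr, Nat.zero_le r⟩) hw) h
  intro d
  induction d with
  | zero =>
    intro k hk g hg _
    have hb : uGen D F (fun r => Pos D r ∧ k ≤ r) = ⊥ := by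
      rw [eq_bot_iff, uGen_le_iff]; intro r hr ⟨_, h⟩; omega
    rw [hb, Subgroup.mem_bot] at hg
    rw [hg]; exact one_mem _
  | succ d ih =>
    intro k hk g hg hcm
    have hkn : k < D.nroots := by omega
    obtain ⟨t, rfl⟩ := uGen_normal_form hc hcomm (closedPos_pos hc) k hg
    by_cases hkp : Pos D k
    swap
    · have hrf : rootsFrom D (fun r => D.nroots / 2 ≤ r) k = rootsFrom D (fun r => D.nroots / 2 ≤ r) (k + 1) :=
        rootsFrom_eq_skip (P := fun r => D.nroots / 2 ≤ r) hkn hkp
      refine ih (k + 1) (by omega) _ ?_ hcm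
      rw [hrf]; exact uProd_mem hc (k + 1) t
    have hrf : uProd D F (rootsFrom D (fun r => D.nroots / 2 ≤ r) k) t =
        elX D F k (t k) * uProd D F (rootsFrom D (fun r => D.nroots / 2 ≤ r) (k + 1)) t := by
      rw [rootsFrom_eq_cons (P := fun r => D.nroots / 2 ≤ r) hkn hkp, uProd_cons]
    have hrest := uProd_mem hc (F := F) (P := fun r => D.nroots / 2 ≤ r) (k + 1) t
    rw [hrf] at hcm ⊢
    set k' := uProd D F (rootsFrom D (fun r => D.nroots / 2 ≤ r) (k + 1)) t
    rcases hd k hkn hkp with hC | ⟨a, v, e, rest, ha, hap, hne, ht, he, hlt⟩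
    · refine mul_mem (elX_mem_uGen hkn hC _) (ih (k + 1) (by omega) _ hrest fun a ha hap => ?_)
      have hC' := ctr_commute hc hcomm hkn hC (t k) (elX_mem_uGen ha hap (1 : F))
      have := (hC'.symm.inv_right).mul_right (hcm a ha hap)
      rwa [inv_mul_cancel_left] at this
    · obtain ⟨hv, hvp, K, hK, eK⟩ := partner_lead hc hcomm ha hap hkn hkp hne ht hlt (t k)
        (uGen_mono (fun r _ hr => hr.2) hrest : k' ∈ uGen D F (fun s => k < s))
      have hone : elX D F v ((e : F) * t k) * K = elX D F v 0 * 1 := by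
        rw [← eK, elX_zero hc F hv, mul_one, (hcm a ha hap).eq]
        group
      have h0 : t k = 0 :=
        (mul_eq_zero.1 (coord_unique hc hv hvp hK (one_mem _) hone)).resolve_left he
      rw [h0, elX_zero hc F hkn, one_mul] at hcm ⊢
      exact ih (k + 1) (by omega) _ hrest hcm

/-- an element of `U` whose `σ`-difference is central is a fixed element times a central one -/
theorem almost_fixed (σ : F →+* F) {u : GL D.Idx F} (hu : u ∈ uGen D F (Pos D))
    (hw : u⁻¹ * glMap D σ u ∈ uGen D F (Ctr D F)) :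
    ∃ u₀ ∈ uGen D F (Pos D), glMap D σ u₀ = u₀ ∧ ∃ z ∈ uGen D F (Ctr D F), u = u₀ * z := by
  classical
  obtain ⟨t, rfl⟩ := exists_posProd hc hcomm hu
  obtain ⟨d, hd, hwd⟩ := mem_ctr hc hcomm (fun _ h => h) hw
  have hσ : posProd D F (fun r => σ (t r)) = posProd D F (t + d) := by
    rw [← glMap_posProd hc σ, ← posProd_add hc hcomm fun r hr _ h => hd r hr h, ← hwd]
    group
  set t0 : ℕ → F := fun r => if Ctr D F r then 0 else t r with ht0
  set t1 : ℕ → F := fun r => if Ctr D F r then t r else 0 with ht1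
  have hsplit : posProd D F t = posProd D F t0 * posProd D F t1 := by
    rw [posProd_add hc hcomm fun r _ _ h => by by_contra hh; exact h (if_neg hh)]
    congr 1
    funext r
    simp only [Pi.add_apply, ht0, ht1]
    split <;> simp
  refine ⟨_, posProd_mem hc t0, ?_, posProd D F t1, ?_, hsplit⟩
  · rw [glMap_posProd hc σ]
    refine uProd_congr fun r hr => ?_
    obtain ⟨hrn, hrp⟩ := mem_posRoots.1 hr
    simp only [ht0]
    split
    · exact map_zero σ
    · rename_i hC
      have e := posProd_inj hc hσ hrn hrp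
      rw [Pi.add_apply, not_not.1 fun h => hC (hd r hrn h), add_zero] at e
      exact e
  · refine Subgroup.list_prod_mem _ fun x hx => ?_
    obtain ⟨r, hr, rfl⟩ := List.mem_map.1 hx
    obtain ⟨hrn, -⟩ := mem_posRoots.1 hr
    by_cases hC : Ctr D F r
    · exact elX_mem_uGen hrn hC _
    · simp only [ht1, if_neg hC, elX_zero hc F hrn]; exact one_mem _

variable {σ : F →+* F} {H : Subgroup (GL D.Idx F)} (hH : Over D σ H)
include hH

theorem fixed_pos_mem {u : GL D.Idx F} (hu : u ∈ uGen D F (Pos D)) (h : glMap D σ u = u) : u ∈ H := by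
  obtain ⟨t, rfl⟩ := exists_posProd hc hcomm hu
  rw [glMap_posProd hc σ] at h
  refine Subgroup.list_prod_mem _ fun x hx => ?_
  obtain ⟨r, hr, rfl⟩ := List.mem_map.1 hx
  obtain ⟨hrn, hrp⟩ := mem_posRoots.1 hr
  exact hH.root r hrn _ (posProd_inj hc h hrn hrp)

omit hcomm in
theorem nProd_mem (L : List (Fin D.rank)) : nProd D F L ∈ H := by
  refine Subgroup.list_prod_mem _ fun x hx => ?_
  obtain ⟨i, -, rfl⟩ := List.mem_map.1 hx
  have hp := simple_lt hc i.2
  rw [elN, inv_one]
  exact mul_mem (mul_mem (hH.root _ hp _ (map_one σ)) (hH.root _ (neg_lt hc hp) _ (by rw [map_neg, map_one])))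
    (hH.root _ hp _ (map_one σ))

omit hcomm in
/-- a root element whose `σ`-difference commutes -/
theorem commute_diff {u : GL D.Idx F} {a : ℕ} (ha : a < D.nroots)
    (h : glMap D σ (u * elX D F a 1 * u⁻¹) = u * elX D F a 1 * u⁻¹) :
    Commute (elX D F a 1) (u⁻¹ * glMap D σ u) := by
  rw [map_mul, map_mul, map_inv, glMap_elX hc σ ha, map_one] at h
  set s := glMap D σ u
  show elX D F a 1 * (u⁻¹ * s) = u⁻¹ * s * elX D F a 1
  calc elX D F a 1 * (u⁻¹ * s) = u⁻¹ * (u * elX D F a 1 * u⁻¹) * s := by group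
    _ = u⁻¹ * (s * elX D F a 1 * s⁻¹) * s := by rw [h]
    _ = u⁻¹ * s * elX D F a 1 := by group

/-- the unipotent elements of `H` are fixed -/
theorem pos_fixed (p : ℕ) [Fact p.Prime] [CharP F p] (hd : Dich D F)
    (hZ : ∀ z ∈ uGen D F (Ctr D F), z ∈ H → glMap D σ z = z) {u : GL D.Idx F} (hu : u ∈ uGen D F (Pos D))
    (huH : u ∈ H) : glMap D σ u = u := by
  haveI := hH.fin
  let K : Subgroup (GL D.Idx F) := H ⊓ uGen D F (Pos D)
  haveI : Finite K := Finite.of_injective (Subgroup.inclusion inf_le_left) (Subgroup.inclusion_injective _)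
  have hK : IsPGroup p K := (isPGroup_pos hc p).to_le inf_le_right
  let P : Subgroup K := ((glMap D σ).eqLocus (MonoidHom.id _)).subgroupOf K
  have hP : ∀ x : K, x ∈ P ↔ glMap D σ (x : GL D.Idx F) = x := fun x => Iff.rfl
  haveI := hK.isNilpotent
  suffices hPtop : P = ⊤ by
    exact (hP ⟨u, huH, hu⟩).1 (hPtop ▸ Subgroup.mem_top _)
  refine normalizerCondition_iff_only_full_group_self_normalizing.mp Group.normalizerCondition_of_isNilpotent P
    (le_antisymm (fun g hg => ?_) Subgroup.le_normalizer)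
  obtain ⟨hgH, hgU⟩ := g.2
  have hcm : ∀ a, a < D.nroots → Pos D a →
      Commute (elX D F a 1) ((g : GL D.Idx F)⁻¹ * glMap D σ (g : GL D.Idx F)) := by
    intro a ha hap
    have hxP : (⟨elX D F a 1, hH.root a ha 1 (map_one σ), elX_mem_uGen ha hap 1⟩ : K) ∈ P :=
      (hP _).2 (show glMap D σ (elX D F a 1) = _ by rw [glMap_elX hc σ ha, map_one])
    exact commute_diff hc hH ha ((hP _).1 ((Subgroup.mem_normalizer_iff.1 hg _).1 hxP))
  have hw := centralizer_unip hc hcomm hd (mul_mem (inv_mem hgU) (glMap_uGen hc σ hgU)) hcm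
  obtain ⟨u₀, hu₀, hσu₀, z, hz, e⟩ := almost_fixed hc hcomm σ hgU hw
  have hzH : z ∈ H := by
    have := mul_mem (inv_mem (fixed_pos_mem hc hcomm hH hu₀ hσu₀)) hgH
    rwa [e, inv_mul_cancel_left] at this
  rw [hP, e, map_mul, hσu₀, hZ z hz hzH]

/-- an element `u d` of `H` in the Borel subgroup has fixed `d` and almost fixed `u` -/
theorem borel_core (hd : Dich D F) (hU : ∀ u ∈ uGen D F (Pos D), u ∈ H → glMap D σ u = u) {u d : GL D.Idx F}
    (hu : u ∈ uGen D F (Pos D)) (hdd : d ∈ D.diagonalSubgroup F) (hg : u * d ∈ H) :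
    glMap D σ d = d ∧ u⁻¹ * glMap D σ u ∈ uGen D F (Ctr D F) := by
  obtain ⟨x, hx⟩ := (mem_diagonal hc).1 hdd
  set χ := hPar D F x
  have hgB : u * d ∈ D.borelSubgroup F := mul_mem (pos_le_borel hc hu) (diagonal_le_borel hc hdd)
  have himg : ∀ a, a < D.nroots → Pos D a → ∀ t, σ t = t →
      glMap D σ (u * d * elX D F a t * (u * d)⁻¹) = u * d * elX D F a t * (u * d)⁻¹ := fun a ha hap t ht =>
    hU _ (borel_conj_pos hc hgB (elX_mem_uGen ha hap t)) (mul_mem (mul_mem hg (hH.root a ha t ht)) (inv_mem hg))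
  have hval : ∀ a, a < D.nroots → Pos D a → σ (chi χ (rv D T a) : F) = (chi χ (rv D T a) : F) := by
    intro a ha hap
    have h := himg a ha hap 1 (map_one σ)
    obtain ⟨k, hk, hlead⟩ := borel_conj_lead hc hcomm ha hap hu χ
    rw [hx] at hlead
    rw [hlead, map_mul, glMap_elX hc σ ha] at h
    exact coord_unique hc ha hap (glMap_uGen hc σ hk) hk h
  have hdfix : glMap D σ d = d := by
    rw [← hx, glMap_torus]
    congr 1
    funext i
    have h := hval _ (simple_lt hc i.2) (half_le_simple hc i.2)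
    rw [rv_simple hc, chi_single, zpow_one] at h
    exact Units.ext h
  refine ⟨hdfix, centralizer_unip hc hcomm hd (mul_mem (inv_mem hu) (glMap_uGen hc σ hu)) fun a ha hap =>
    commute_diff hc hH ha ?_⟩
  have h := himg a ha hap ((chi χ (rv D T a))⁻¹ : Fˣ) (by rw [Units.val_inv_eq_inv_val, map_inv₀, hval a ha hap])
  rw [show u * d * elX D F a ((chi χ (rv D T a))⁻¹ : Fˣ) * (u * d)⁻¹ =
    u * (d * elX D F a ((chi χ (rv D T a))⁻¹ : Fˣ) * d⁻¹) * u⁻¹ by group, ← hx, torus_conj_elX hc χ ha,
    Units.val_inv_eq_inv_val, mul_inv_cancel₀ (Units.ne_zero _)] at h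
  exact h

/-- a central coordinate is fixed if a fundamental reflection moves its root to a non-central one -/
theorem move (hd : Dich D F) (hU : ∀ u ∈ uGen D F (Pos D), u ∈ H → glMap D σ u = u) (i : Fin D.rank) {s : ℕ}
    (hs : s < D.nroots) (hsp : Pos D (sig D T i s)) (hnC : ¬ Ctr D F (sig D T i s)) {P : ℕ → Prop}
    (hP : ∀ r, r < D.nroots → P r → Ctr D F (sig D T i r)) (τ : F) {z d : GL D.Idx F} (hz : z ∈ uGen D F P)
    (hdd : d ∈ D.diagonalSubgroup F) (hg : elX D F s τ * z * d ∈ H) : σ τ = τ := by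
  set n := nProd D F [i]
  obtain ⟨c, hc1, hcx⟩ := nProd_conj_elX hc (F := F) [i] hs
  have hz' : n * z * n⁻¹ ∈ uGen D F (Ctr D F) := ChevField.nProd_conj_uGen hc [i] (Q := Ctr D F) hP hz
  have hd' : n * d * n⁻¹ ∈ D.diagonalSubgroup F := nProd_conj_diagonal hc [i] hdd
  have hs' : sigs D T [i] s < D.nroots := sigs_lt hc [i] hs
  have hCpos : uGen D F (Ctr D F) ≤ uGen D F (Pos D) := uGen_mono fun _ _ h => h.1
  have hgn : elX D F (sigs D T [i] s) ((c : F) * τ) * (n * z * n⁻¹) * (n * d * n⁻¹) ∈ H := by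
    have := mul_mem (mul_mem (nProd_mem hc hH [i]) hg) (inv_mem (nProd_mem hc hH [i]))
    convert this using 1
    rw [← hcx τ]
    simp only [n]
    group
  set s' := sigs D T [i] s
  set z' := n * z * n⁻¹
  have hsp' : Pos D s' := hsp
  obtain ⟨-, hw⟩ := borel_core hc hcomm hH hd hU (mul_mem (elX_mem_uGen hs' hsp' _) (hCpos hz')) hd' hgn
  rw [map_mul, glMap_elX hc σ hs', mul_inv_rev, elX_inv hc F hs',
    show z'⁻¹ * elX D F s' (-((c : F) * τ)) * (elX D F s' (σ ((c : F) * τ)) * glMap D σ z') =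
      z'⁻¹ * (elX D F s' (-((c : F) * τ)) * elX D F s' (σ ((c : F) * τ))) * glMap D σ z' by group,
    elX_add hc F hs'] at hw
  have hmem : elX D F s' (-((c : F) * τ) + σ ((c : F) * τ)) ∈ uGen D F (Ctr D F) := by
    have := mul_mem (mul_mem hz' hw) (inv_mem (glMap_uGen hc σ hz'))
    convert this using 1
    group
  obtain ⟨e, he, hee⟩ := mem_ctr hc hcomm (fun _ h => h) hmem
  rw [← posProd_single hc hs' hsp'] at hee
  have h0 := posProd_inj hc hee hs' hsp'
  rw [Pi.single_eq_same, not_not.1 fun h => hnC (he s' hs' h), neg_add_eq_zero] at h0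
  rcases hc1 with e | e <;> rw [e] at h0
  · rw [one_mul] at h0; exact h0.symm
  · rw [neg_one_mul, map_neg, neg_inj] at h0; exact h0.symm

end

end CfsgLib.SubfieldOver
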